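import Cfsg.Agent.SmallPRep.Factor
import Cfsg.Agent.Classical.Linear.Simple
import Mathlib.LinearAlgebra.Eigenspace.Semisimple
import Mathlib.LinearAlgebra.Eigenspace.Triangularizable

/-!
# Faithful characters of small degree of groups with a Sylow subgroup of order `p`

The degree is at least `(p - 1) / 2`; in case of equality the central quotient is `PSL(2, p)`.
-/

set_option autoImplicit false

namespace CfsgLib.SmallPRep

open scoped MatrixGroups

section Eigen

variable {V : Type*} [AddCommGroup V] [Module ℂ V] [FiniteDimensional ℂ V]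

theorem exists_eigenvalue_ne_one {f : Module.End ℂ V} {p : ℕ} (hp : p ≠ 0) (hf : f ^ p = 1)
    (hf1 : f ≠ 1) : ∃ μ : ℂ, μ ^ p = 1 ∧ μ ≠ 1 ∧ f.HasEigenvalue μ := by
  have hpow : ∀ μ v, f.HasEigenvector μ v → μ ^ p = 1 := fun μ v hv => by
    have := hv.pow_apply p
    rw [hf, Module.End.one_apply] at this
    by_contra hne
    refine hv.2 ((smul_eq_zero.1 (show (μ ^ p - 1) • v = 0 by
      rw [sub_smul, one_smul, ← this, sub_self])).resolve_left (sub_ne_zero.2 hne))
  by_contra hno
  push Not at hno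
  have honly : ∀ μ, f.HasEigenvalue μ → μ = 1 := fun μ hμ => by
    obtain ⟨v, hv⟩ := hμ.exists_hasEigenvector
    by_contra h
    exact hno μ (hpow μ v hv) h hμ
  have hss : f.IsSemisimple := by
    refine Module.End.isSemisimple_of_squarefree_aeval_eq_zero (p := Polynomial.X ^ p - 1) ?_ ?_
    · exact (Polynomial.X_pow_sub_one_separable_iff.2 (by exact_mod_cast hp)).squarefree
    · simp [hf]
  refine hf1 (sub_eq_zero.1 (LinearMap.ker_eq_top.1 (top_le_iff.1 ?_)))
  rw [← f.iSup_maxGenEigenspace_eq_top]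
  refine iSup_le fun μ => ?_
  rw [hss.isFinitelySemisimple.maxGenEigenspace_eq_eigenspace]
  intro v hv
  by_cases hv0 : v = 0
  · rw [hv0]; exact Submodule.zero_mem _
  have hμ : μ = 1 := honly μ (Module.End.hasEigenvalue_of_hasEigenvector ⟨hv, hv0⟩)
  rw [LinearMap.mem_ker, LinearMap.sub_apply, Module.End.one_apply,
    Module.End.mem_eigenspace_iff.1 hv, hμ, one_smul, sub_self]

theorem card_le_finrank_of_eigenvalues {f : Module.End ℂ V} {m : ℕ} (μ : Fin m → ℂ)
    (hμ : Function.Injective μ) (h : ∀ i, f.HasEigenvalue (μ i)) :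
    m ≤ Module.finrank ℂ V ∧ (Module.finrank ℂ V = m →
      ∀ c c' : Module.End ℂ V, Commute c f → Commute c' f → c * c' = c' * c) := by
  choose v hv using fun i => (h i).exists_hasEigenvector
  have hli : LinearIndependent ℂ v := Module.End.eigenvectors_linearIndependent' f μ hμ v hv
  refine ⟨by simpa using hli.fintype_card_le_finrank, fun hd c c' hc hc' => ?_⟩
  rcases Nat.eq_zero_or_pos m with rfl | hm
  · haveI := Module.finrank_zero_iff.1 hd
    exact LinearMap.ext fun w => Subsingleton.elim _ _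
  haveI : Nonempty (Fin m) := ⟨⟨0, hm⟩⟩
  let b := basisOfLinearIndependentOfCardEqFinrank hli (by simpa using hd.symm)
  have hb : ∀ i, b i = v i := fun i => by simp [b]
  have hscal : ∀ (e : Module.End ℂ V), Commute e f → ∀ i, ∃ a : ℂ, e (b i) = a • b i := by
    intro e he i
    refine ⟨b.repr (e (b i)) i, b.repr.injective (Finsupp.ext fun j => ?_)⟩
    by_cases hij : i = j
    · simp [hij]
    have h1 : f (e (b i)) = μ i • e (b i) := by
      rw [← Module.End.mul_apply, ← he.eq, Module.End.mul_apply, hb, (hv i).apply_eq_smul, map_smul]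
    have h2 : f (e (b i)) = ∑ l, (b.repr (e (b i)) l * μ l) • b l := by
      conv_lhs => rw [← b.sum_repr (e (b i))]
      simp only [map_sum, map_smul, hb, (hv _).apply_eq_smul, smul_smul]
    have h3 := congrArg (fun w => b.repr w j) (h1.symm.trans h2)
    simp only [map_smul, Finsupp.smul_apply, smul_eq_mul, b.repr_sum_self] at h3
    have h4 : (μ i - μ j) * b.repr (e (b i)) j = 0 := by linear_combination h3
    rcases mul_eq_zero.1 h4 with h4 | h4
    · exact absurd (hμ (sub_eq_zero.1 h4)) hij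
    · simp [h4, Ne.symm hij]
  refine b.ext fun i => ?_
  obtain ⟨a, ha⟩ := hscal c hc i
  obtain ⟨a', ha'⟩ := hscal c' hc' i
  rw [Module.End.mul_apply, Module.End.mul_apply, ha', map_smul, ha, map_smul, ha', smul_comm]

end Eigen

variable {G : Type*} [Group G] [Finite G] {p : ℕ} [hp : Fact p.Prime]

theorem hasEigenvalue_pow_of_conj {d : ℕ} (ρ : Representation ℂ G (Fin d → ℂ)) {g x : G} {t : ℕ}
    (hg : g * x * g⁻¹ = x ^ t) {μ : ℂ} (hμ : Module.End.HasEigenvalue (ρ x) μ) :
    Module.End.HasEigenvalue (ρ x) (μ ^ t) := by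
  obtain ⟨v, hv⟩ := hμ.exists_hasEigenvector
  have hx : x = g⁻¹ * x ^ t * g := by rw [← hg]; group
  refine Module.End.hasEigenvalue_of_hasEigenvector (x := ρ g⁻¹ v) ⟨?_, ?_⟩
  · rw [Module.End.mem_eigenspace_iff]
    conv_lhs => rw [hx, map_mul, map_mul, Module.End.mul_apply, Module.End.mul_apply,
      ← Module.End.mul_apply (ρ g), ← map_mul, mul_inv_cancel, map_one, Module.End.one_apply,
      map_pow, hv.pow_apply, map_smul]
  · intro e
    have := congrArg (ρ g) e
    rw [← Module.End.mul_apply, ← map_mul, mul_inv_cancel, map_one, Module.End.one_apply,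
      map_zero] at this
    exact hv.2 this

omit [Finite G] in
theorem pow_inj_of_orderOf {μ : ℂ} (hμ : orderOf μ = p) {a b : ℕ} (h : μ ^ a = μ ^ b) :
    (a : ZMod p) = (b : ZMod p) := by
  have h0 : μ ≠ 0 := fun e => by
    have := pow_orderOf_eq_one μ
    rw [hμ, e, zero_pow hp.out.ne_zero] at this
    exact zero_ne_one this
  replace h : Units.mk0 μ h0 ^ a = Units.mk0 μ h0 ^ b := Units.ext (by simpa using h)
  rw [pow_eq_pow_iff_modEq, ← orderOf_units, Units.val_mk0, hμ] at h
  exact (ZMod.natCast_eq_natCast_iff _ _ _).2 h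

theorem injective_sq_fin (p : ℕ) [Fact p.Prime] :
    Function.Injective fun i : Fin ((p - 1) / 2) => (((i : ℕ) + 1 : ℕ) : ZMod p) ^ 2 := by
  intro i j h
  have hi := i.2
  have hj := j.2
  rcases eq_or_eq_neg_of_sq_eq_sq _ _ h with e | e
  · rw [ZMod.natCast_eq_natCast_iff', Nat.mod_eq_of_lt (by omega), Nat.mod_eq_of_lt (by omega)] at e
    exact Fin.ext (by omega)
  · rw [eq_neg_iff_add_eq_zero, ← Nat.cast_add, ZMod.natCast_eq_zero_iff] at e
    have := Nat.le_of_dvd (by omega) e
    omega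

/-- The hypotheses and consequences of a faithful representation of degree at most `(p - 1) / 2`. -/
theorem small_degree (hsq : ¬ p ^ 2 ∣ Nat.card G) (hdiv : p ∣ Nat.card G)
    (hnn : ∀ H : Subgroup G, H.Normal → Nat.card H ≠ p) {d : ℕ}
    (ρ : Representation ℂ G (Fin d → ℂ)) (hρ : Function.Injective ρ) (hd : 2 * d + 1 ≤ p) :
    2 * d + 1 = p ∧ Nonempty ((G ⧸ Subgroup.center G) ≃*
      Matrix.ProjectiveSpecialLinearGroup (Fin 2) (ZMod p)) := by
  classical
  obtain ⟨x, hx⟩ := exists_prime_orderOf_dvd_card' p hdiv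
  have hx1 : x ≠ 1 := fun e => by
    rw [e, orderOf_one] at hx
    exact hp.out.one_lt.ne hx
  -- no normal `p`-subgroups
  have hN : ∀ N : Subgroup G, N.Normal → IsPGroup p N → N = ⊥ := by
    intro N hNn hNp
    obtain ⟨e, he⟩ := hNp.exists_card_eq
    rcases Nat.lt_trichotomy e 1 with h | h | h
    · rw [Nat.lt_one_iff.1 h, pow_zero] at he
      exact Subgroup.card_eq_one.1 he
    · exact absurd (by rw [he, h, pow_one]) (hnn N hNn)
    · exact absurd ((pow_dvd_pow p h).trans (he ▸ Subgroup.card_subgroup_dvd_card N)) hsq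
  -- the degree is at least two
  have hd2 : 2 ≤ d := by
    by_contra hlt
    have hcomm : ∀ a b : G, a * b = b * a := fun a b => hρ (by
      rw [map_mul, map_mul]
      refine LinearMap.ext fun v => ?_
      rcases Nat.eq_zero_or_pos d with h0 | h0
      · subst h0; exact Subsingleton.elim _ _
      · obtain rfl : d = 1 := by omega
        have hsc : ∀ (f : Module.End ℂ (Fin 1 → ℂ)) (w : Fin 1 → ℂ), f w = f 1 0 • w := by
          intro f w
          have hw : w = w 0 • (1 : Fin 1 → ℂ) := by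
            ext i; fin_cases i; simp
          conv_lhs => rw [hw, map_smul]
          ext i; fin_cases i; simp [mul_comm]
        rw [Module.End.mul_apply, Module.End.mul_apply, hsc (ρ b) v, map_smul, hsc (ρ a) v,
          map_smul, hsc (ρ b) v, smul_comm])
    refine hnn (Subgroup.zpowers x) ⟨fun n hn g => ?_⟩ (by rw [Nat.card_zpowers, hx])
    rwa [hcomm g n, mul_inv_cancel_right]
  have hp5 : p = 5 ∨ 7 ≤ p := by
    by_contra h
    obtain rfl : p = 6 := by omega
    exact absurd hp.out (by norm_num)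
  -- reduction
  let A : Module.End ℂ (Fin d → ℂ) ≃ₐ[ℂ] Matrix (Fin d) (Fin d) ℂ := LinearMap.toMatrixAlgEquiv'
  obtain ⟨k, _, _, _, Y, hY⟩ := exists_reduction p (A.toMonoidHom.comp ρ)
    (A.injective.comp hρ) hN
  have hproj : ∀ (W : Type) [AddCommGroup W] [Module k W] [FiniteDimensional k W]
      (σ : Representation k G W), Module.finrank k W ≤ d →
      (∀ U : Submodule k W, (∀ g, ∀ v ∈ U, σ g v ∈ U) → U = ⊥ ∨ U = ⊤) → σ x ≠ 1 →
      ∃ φ : G →* PGL(2, ZMod p), φ x ≠ 1 ∧ (∀ g, φ g = 1 → Commute (σ g) (σ x)) ∧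
        (φ.range = ⊤ ∨
          φ.range = (Matrix.SpecialLinearGroup.toPGL (n := Fin 2) (R := ZMod p)).range) := by
    intro W _ _ _ σ hW hirr hne
    exact exists_projective hsq hx σ hirr hne (by omega) hp5
  -- the eigenvalues of `x`
  have hfin : Module.finrank ℂ (Fin d → ℂ) = d := by simp
  have hρp : ρ x ^ p = 1 := by rw [← map_pow, ← hx, pow_orderOf_eq_one, map_one]
  obtain ⟨μ, hμp, hμ1, hμ⟩ := exists_eigenvalue_ne_one hp.out.ne_zero hρp
    (fun e => hx1 (hρ (e.trans (map_one ρ).symm)))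
  have hμo : orderOf μ = p := orderOf_eq_prime hμp hμ1
  have hnd : ∀ i : ℕ, i < p - 1 → ¬ p ∣ i + 1 := fun i hi hdv => by
    have := Nat.le_of_dvd (Nat.succ_pos i) hdv
    omega
  have hnotop : ∀ φ : G →* PGL(2, ZMod p), φ x ≠ 1 → φ.range ≠ ⊤ := by
    intro φ hφx htop
    let f : Fin (p - 1) → ℂ := fun i => μ ^ ((i : ℕ) + 1)
    have hf : Function.Injective f := fun i j e => by
      have h := pow_inj_of_orderOf hμo e
      rw [ZMod.natCast_eq_natCast_iff', Nat.mod_eq_of_lt (by omega), Nat.mod_eq_of_lt (by omega)] at h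
      exact Fin.ext (by omega)
    have := (card_le_finrank_of_eigenvalues (f := ρ x) f hf fun i => by
      obtain ⟨g, hg⟩ := exists_conj_pow_of_range_eq_top hsq hx φ hφx htop _ (hnd i i.2)
      exact hasEigenvalue_pow_of_conj ρ hg hμ).1
    omega
  obtain ⟨W, _, _, _, σ, hW, hirr, hne⟩ := exists_irreducible_ne_one hN Y hY hx1
  obtain ⟨φ, hφx, hφc, hφr⟩ := hproj W σ hW hirr hne
  have hφT := hφr.resolve_left (hnotop φ hφx)
  -- the orbit of the squares
  let f : Fin ((p - 1) / 2) → ℂ := fun i => μ ^ (((i : ℕ) + 1) ^ 2)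
  have hf : Function.Injective f := fun i j e => by
    have h := pow_inj_of_orderOf hμo e
    push_cast at h
    exact injective_sq_fin p (by push_cast; exact h)
  have hev : ∀ i, Module.End.HasEigenvalue (ρ x) (f i) := fun i => by
    obtain ⟨g, hg⟩ := exists_conj_sq_pow hsq hx φ hφx hφT.ge ((i : ℕ) + 1)
      (hnd i (by have := i.2; omega))
    exact hasEigenvalue_pow_of_conj ρ hg hμ
  obtain ⟨hle, htight⟩ := card_le_finrank_of_eigenvalues (f := ρ x) f hf hev
  rw [hfin] at hle htight
  obtain ⟨q, hq⟩ := hp.out.odd_of_ne_two (by omega)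
  have hdp : 2 * d + 1 = p := by omega
  refine ⟨hdp, ?_⟩
  have hcm := htight (by omega)
  -- the homomorphisms onto `PSL(2, p)`
  haveI : IsSimpleGroup (Matrix.ProjectiveSpecialLinearGroup (Fin 2) (ZMod p)) :=
    CfsgLib.Classical.Linear.isSimpleGroup_psl_fin le_rfl fun _ => by
      rw [Nat.card_zmod]; omega
  have hT : (Matrix.ProjectiveSpecialLinearGroup.toPGL (n := Fin 2) (R := ZMod p)).range =
      (Matrix.SpecialLinearGroup.toPGL (n := Fin 2) (R := ZMod p)).range := by
    apply le_antisymm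
    · rintro _ ⟨s, rfl⟩
      induction s using QuotientGroup.induction_on with
      | H a => exact ⟨a, rfl⟩
    · rintro _ ⟨a, rfl⟩
      exact ⟨QuotientGroup.mk a, rfl⟩
  have hsurj : ∀ φ' : G →* PGL(2, ZMod p),
      φ'.range = (Matrix.SpecialLinearGroup.toPGL (n := Fin 2) (R := ZMod p)).range →
      ∃ π : G →* Matrix.ProjectiveSpecialLinearGroup (Fin 2) (ZMod p),
        Function.Surjective π ∧ π.ker = φ'.ker := by
    intro φ' hφ'
    have hinj := Matrix.ProjectiveSpecialLinearGroup.toPGL_injective (n := Fin 2) (R := ZMod p)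
    let e := (MonoidHom.ofInjective hinj).trans (MulEquiv.subgroupCongr (hT.trans hφ'.symm))
    refine ⟨e.symm.toMonoidHom.comp φ'.rangeRestrict,
      e.symm.surjective.comp φ'.rangeRestrict_surjective, ?_⟩
    ext g
    rw [MonoidHom.mem_ker, MonoidHom.mem_ker, MonoidHom.comp_apply, MulEquiv.coe_toMonoidHom,
      map_eq_one_iff _ e.symm.injective, Subtype.ext_iff, MonoidHom.coe_rangeRestrict, OneMemClass.coe_one]
  obtain ⟨π, hπs, hπk⟩ := hsurj φ hφT
  -- the kernel centralises `x`
  have hKx : ∀ c ∈ φ.ker, c * x = x * c := by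
    intro c hc
    by_contra hne'
    have hz : c * x * c⁻¹ * x⁻¹ ≠ 1 := fun e => hne' (by
      rw [mul_inv_eq_one, mul_inv_eq_iff_eq_mul] at e; exact e)
    obtain ⟨W', _, _, _, σ', hW', hirr', hz'⟩ := exists_irreducible_ne_one hN Y hY hz
    have hσ'x : σ' x ≠ 1 := fun e => hz' (by
      simp only [map_mul, e, mul_one]
      have hxi : σ' x⁻¹ = 1 := by
        calc σ' x⁻¹ = σ' x⁻¹ * σ' x := by rw [e, mul_one]
          _ = 1 := by rw [← map_mul, inv_mul_cancel, map_one]
      rw [hxi, mul_one, ← map_mul, mul_inv_cancel, map_one])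
    obtain ⟨φ', hφ'x, hφ'c, hφ'r⟩ := hproj W' σ' hW' hirr' hσ'x
    obtain ⟨π', hπ's, hπ'k⟩ := hsurj φ' (hφ'r.resolve_left (hnotop φ' hφ'x))
    have hcmem : c ∈ φ'.ker := by
      rw [← hπ'k]
      rcases ((MonoidHom.normal_ker φ).map π' hπ's).eq_bot_or_eq_top with h | h
      · exact (Subgroup.map_eq_bot_iff _).1 h hc
      · exfalso
        refine not_dvd_card_ker hsq hx φ hφx ?_
        refine Dvd.dvd.trans ?_ (Subgroup.card_map_dvd φ.ker π')
        rw [h, Subgroup.card_top]
        have h1 := orderOf_dvd_natCard (π' x)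
        rwa [orderOf_map_eq hx π' (fun e => hφ'x (by
          rwa [← MonoidHom.mem_ker, ← hπ'k, MonoidHom.mem_ker]))] at h1
    refine hz' ?_
    rw [map_mul, map_mul, map_mul, (hφ'c c hcmem).eq, mul_assoc (σ' x) (σ' c), ← map_mul σ' c,
      mul_inv_cancel, map_one, mul_one, ← map_mul, mul_inv_cancel, map_one]
  -- the kernel is central
  have hKab : ∀ c ∈ φ.ker, ∀ c' ∈ φ.ker, c * c' = c' * c := fun c hc c' hc' => hρ (by
    rw [map_mul, map_mul]
    exact hcm _ _ (by rw [Commute, SemiconjBy, ← map_mul, ← map_mul, hKx c hc])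
      (by rw [Commute, SemiconjBy, ← map_mul, ← map_mul, hKx c' hc']))
  have hπx : π x ≠ 1 := fun e => hφx (by rwa [← MonoidHom.mem_ker, ← hπk, MonoidHom.mem_ker])
  have hKZ : φ.ker ≤ Subgroup.center G := by
    set C := Subgroup.centralizer (φ.ker : Set G) with hC
    have hxC : x ∈ C := Subgroup.mem_centralizer_iff.2 fun c hc => hKx c hc
    have hCn : C.Normal := by
      haveI : φ.ker.Normal := MonoidHom.normal_ker φ
      rw [hC]; infer_instance
    have hCtop : C = ⊤ := by
      rcases (hCn.map π hπs).eq_bot_or_eq_top with h | h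
      · exact absurd ((Subgroup.map_eq_bot_iff _).1 h hxC) hπx
      · have h2 := Subgroup.comap_map_eq π C
        rw [h, Subgroup.comap_top, sup_eq_left.2] at h2
        · exact h2.symm
        · rw [hπk]
          exact fun c hc => Subgroup.mem_centralizer_iff.2 fun c' hc' => hKab c' hc' c hc
    intro c hc
    rw [Subgroup.mem_center_iff]
    intro g
    exact (Subgroup.mem_centralizer_iff.1 (hCtop.ge (Subgroup.mem_top g)) c hc).symm
  have hker : π.ker = Subgroup.center G := by
    refine le_antisymm (hπk.trans_le hKZ) ?_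
    rcases ((inferInstance : (Subgroup.center G).Normal).map π hπs).eq_bot_or_eq_top with h | h
    · exact (Subgroup.map_eq_bot_iff _).1 h
    · exfalso
      obtain ⟨g, hg⟩ := exists_conj_sq_pow hsq hx φ hφx hφT.ge 2 (hnd 1 (by omega))
      obtain ⟨z, hz, hz'⟩ := h.ge (Subgroup.mem_top (π g))
      have h1 : π (g * x * g⁻¹) = π x := by
        rw [map_mul, map_mul, map_inv, ← hz', ← map_inv, ← map_mul, ← map_mul,
          ← Subgroup.mem_center_iff.1 hz x, mul_inv_cancel_right]
      rw [hg, map_pow, show 2 ^ 2 = 3 + 1 from rfl, pow_succ, mul_eq_right] at h1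
      have h2 := orderOf_dvd_of_pow_eq_one h1
      rw [orderOf_map_eq hx π hπx] at h2
      have := Nat.le_of_dvd (by norm_num) h2
      omega
  exact ⟨(QuotientGroup.quotientMulEquivOfEq hker.symm).trans
    (QuotientGroup.quotientKerEquivOfSurjective π hπs)⟩

end CfsgLib.SmallPRep
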