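import Mathlib.LinearAlgebra.Matrix.GeneralLinearGroup.Projective
import Mathlib.LinearAlgebra.Matrix.NonsingularInverse
import Mathlib.FieldTheory.IsAlgClosed.Basic
import Mathlib.Tactic.LinearCombination
import Mathlib.Tactic.FieldSimp

/-!
# Isometries of trace-zero two by two matrices of determinant one are conjugations
-/

set_option autoImplicit false

namespace CfsgLib.SmallPRep

open Matrix

variable {k : Type*} [Field k]

/-- The trace-zero matrix with coordinates `(a, b, c)`. -/
def tz (a b c : k) : Matrix (Fin 2) (Fin 2) k := !![b, a; c, -b]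

theorem tz_combination (x y z : k) : x • tz 1 0 0 + y • tz 0 1 0 + z • tz 0 0 1 = tz x y z := by
  ext i j
  fin_cases i <;> fin_cases j <;> simp [tz]

/-- An isometry of determinant one is a conjugation. -/
theorem exists_conj [IsAlgClosed k] {a1 a2 a3 b1 b2 b3 d1 d2 d3 : k}
    (Qa : a2 ^ 2 + a1 * a3 = 0) (Qd : d2 ^ 2 + d1 * d3 = 0)
    (Bad : a1 * d3 + a3 * d1 + 2 * a2 * d2 = 1) (Bab : a1 * b3 + a3 * b1 + 2 * a2 * b2 = 0)
    (Bdb : d1 * b3 + d3 * b1 + 2 * d2 * b2 = 0)
    (hdet : a1 * (b2 * d3 - b3 * d2) - a2 * (b1 * d3 - b3 * d1) + a3 * (b1 * d2 - b2 * d1) = 1) :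
    ∃ h : GL (Fin 2) k, h.val * tz 1 0 0 = tz a1 a2 a3 * h.val ∧
      h.val * tz 0 1 0 = tz b1 b2 b3 * h.val ∧ h.val * tz 0 0 1 = tz d1 d2 d3 * h.val := by
  obtain ⟨r, s, e1, e2, e3⟩ : ∃ r s : k, a1 = r ^ 2 ∧ a2 = -(r * s) ∧ a3 = -s ^ 2 := by
    by_cases h : a1 = 0
    · obtain ⟨s, hs⟩ := IsAlgClosed.exists_pow_nat_eq (-a3) two_pos
      have : a2 = 0 := by simpa [h] using Qa
      exact ⟨0, s, by simp [h], by simp [this], by rw [hs, neg_neg]⟩
    · obtain ⟨r, hr⟩ := IsAlgClosed.exists_pow_nat_eq a1 two_pos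
      have hr0 : r ≠ 0 := fun e => h (by rw [← hr, e]; simp)
      refine ⟨r, -a2 / r, hr.symm, by field_simp, ?_⟩
      field_simp
      linear_combination Qa + a3 * hr
  obtain ⟨r', s', f1, f2, f3⟩ : ∃ r' s' : k, d1 = -r' ^ 2 ∧ d2 = r' * s' ∧ d3 = s' ^ 2 := by
    by_cases h : d1 = 0
    · obtain ⟨s, hs⟩ := IsAlgClosed.exists_pow_nat_eq d3 two_pos
      have : d2 = 0 := by simpa [h] using Qd
      exact ⟨0, s, by simp [h], by simp [this], hs.symm⟩
    · obtain ⟨r, hr⟩ := IsAlgClosed.exists_pow_nat_eq (-d1) two_pos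
      have hr0 : r ≠ 0 := fun e => h (by rw [← neg_neg d1, ← hr, e]; simp)
      refine ⟨r, d2 / r, by rw [hr, neg_neg], by field_simp, ?_⟩
      field_simp
      linear_combination d3 * hr - Qd
  subst e1 e2 e3 f1 f2 f3
  obtain ⟨r', s', hδ, f1, f2, f3⟩ : ∃ R S : k, r * S - R * s = 1 ∧ -r' ^ 2 = -R ^ 2 ∧
      r' * s' = R * S ∧ s' ^ 2 = S ^ 2 := by
    have h2 : (r * s' - r' * s - 1) * (r * s' - r' * s + 1) = 0 := by linear_combination Bad
    rcases mul_eq_zero.1 h2 with h | h
    · exact ⟨r', s', by linear_combination h, rfl, rfl, rfl⟩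
    · exact ⟨-r', -s', by linear_combination -h, by ring, by ring, by ring⟩
  rw [f1, f2, f3] at Bdb hdet ⊢
  have hy : s' * (b2 * r + b1 * s) - r' * (b3 * r - b2 * s) = 1 := by
    linear_combination hdet - (s' * (b2 * r + b1 * s) - r' * (b3 * r - b2 * s)) * hδ
  refine ⟨GeneralLinearGroup.mkOfDetNeZero !![r, r'; s, s'] ?_, ?_, ?_, ?_⟩
  · rw [Matrix.det_fin_two_of]
    intro h0
    exact one_ne_zero (hδ.symm.trans (by linear_combination h0))
  · ext i j
    fin_cases i <;> fin_cases j <;>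
      simp [tz, Matrix.mul_apply, Fin.sum_univ_two, GeneralLinearGroup.mkOfDetNeZero]
    · ring
    · linear_combination -r * hδ
    · ring
    · linear_combination -s * hδ
  · have u1 : b2 * r + b1 * s = r := by
      linear_combination r * hy + r' * Bab - (b2 * r + b1 * s) * hδ
    have u2 : b3 * r - b2 * s = s := by
      linear_combination s * hy + s' * Bab - (b3 * r - b2 * s) * hδ
    have w1 : b2 * r' + b1 * s' = -r' := by
      linear_combination r * Bdb - r' * hy - (b2 * r' + b1 * s') * hδ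
    have w2 : b3 * r' - b2 * s' = -s' := by
      linear_combination s * Bdb - s' * hy - (b3 * r' - b2 * s') * hδ
    ext i j
    fin_cases i <;> fin_cases j <;>
      simp [tz, Matrix.mul_apply, Fin.sum_univ_two, GeneralLinearGroup.mkOfDetNeZero]
    · linear_combination -u1
    · linear_combination -w1
    · linear_combination -u2
    · linear_combination -w2
  · ext i j
    fin_cases i <;> fin_cases j <;>
      simp [tz, Matrix.mul_apply, Fin.sum_univ_two, GeneralLinearGroup.mkOfDetNeZero]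
    · linear_combination -r' * hδ
    · ring
    · linear_combination -s' * hδ
    · ring

/-- A matrix commuting with the trace-zero matrices is scalar. -/
theorem mem_center_of_commute_tz {h : GL (Fin 2) k} (h1 : h.val * tz 1 0 0 = tz 1 0 0 * h.val)
    (h3 : h.val * tz 0 0 1 = tz 0 0 1 * h.val) : h ∈ Subgroup.center (GL (Fin 2) k) := by
  have a := congrFun (congrFun h1 0) 0
  have b := congrFun (congrFun h1 0) 1
  have c := congrFun (congrFun h3 0) 0
  simp [tz, Matrix.mul_apply, Fin.sum_univ_two] at a b c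
  rw [Matrix.GeneralLinearGroup.center_eq_range_scalar]
  have hne : h.val 0 0 ≠ 0 := fun e => by
    apply Matrix.GeneralLinearGroup.det_ne_zero h
    rw [Matrix.det_fin_two]
    simp_all
  refine ⟨Units.mk0 _ hne, Units.ext ?_⟩
  ext i j
  fin_cases i <;> fin_cases j <;> simp_all

end CfsgLib.SmallPRep
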