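import Mathlib.GroupTheory.Sylow
import Mathlib.GroupTheory.QuotientGroup.Defs
import Mathlib.LinearAlgebra.FiniteDimensional.Basic
import Mathlib.Algebra.CharP.Lemmas
import Mathlib.Algebra.Algebra.Bilinear
import Mathlib.Algebra.Field.ZMod
import Mathlib.Algebra.CharP.Algebra
import Mathlib.Data.Nat.Choose.Sum
import Mathlib.RingTheory.Polynomial.Basic

/-!
# Averaging over the cosets of the normaliser of a subgroup of prime order

`exists_equivariant`: an endomorphism commuting with the normaliser differs from one commuting with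
the group by a sum over the powers of a generator of the subgroup, an expression of high order in
`ρ x - 1` (`exists_expansion`).
-/

set_option autoImplicit false

namespace CfsgLib.SmallPRep

open Finset

section Expansion

variable (k : Type*) [Field k] {p : ℕ} [hp : Fact p.Prime] [CharP k p]
  {R : Type*} [Ring R] [Algebra k R]
include k

/-- In characteristic `p`, the sum of the first `p` powers. -/
theorem geom_sum_char (t : R) : ∑ i ∈ range p, t ^ i = (t - 1) ^ (p - 1) := by
  have h : ∑ i ∈ range p, (Polynomial.X : Polynomial k) ^ i = (Polynomial.X - 1) ^ (p - 1) := by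
    have hne : (Polynomial.X - 1 : Polynomial k) ≠ 0 := by
      simpa using Polynomial.X_sub_C_ne_zero (1 : k)
    refine mul_right_cancel₀ hne ?_
    rw [geom_sum_mul, ← pow_succ, Nat.sub_add_cancel hp.out.pos, sub_pow_char, one_pow]
  have h2 := congrArg (Polynomial.aeval t) h
  simpa using h2

/-- The sum of the conjugates by the powers of a unit `X` lies in high powers of `X - 1`. -/
theorem exists_expansion (X Xi φ : R) (h1 : X * Xi = 1) (h2 : Xi * X = 1) :
    ∃ (ψ : R) (r : ℕ → ℤ), ∑ i ∈ range p, X ^ i * φ * Xi ^ i =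
      ∑ a ∈ range p, r a • ((X - 1) ^ a * ψ * (X - 1) ^ (p - 1 - a)) := by
  set B := X - 1 with hB
  let Ad : Module.End k R := LinearMap.mulLeft k X * LinearMap.mulRight k Xi
  have hAd : ∀ i, ∀ y, (Ad ^ i) y = X ^ i * y * Xi ^ i := fun i y => by
    rw [(LinearMap.commute_mulLeft_right X Xi).mul_pow, LinearMap.pow_mulLeft,
      LinearMap.pow_mulRight, Module.End.mul_apply, LinearMap.mulLeft_apply,
      LinearMap.mulRight_apply, mul_assoc]
  let Dl : Module.End k R := LinearMap.mulLeft k B - LinearMap.mulRight k B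
  let Ri : Module.End k R := LinearMap.mulRight k Xi
  have hsplit : Ad - 1 = Dl * Ri := by
    refine LinearMap.ext fun y => ?_
    show X * (y * Xi) - y = B * (y * Xi) - y * Xi * B
    rw [hB, sub_mul, mul_sub, one_mul, mul_one, mul_assoc y Xi X, h2, mul_one]
    abel
  have hXiB : Xi * B = B * Xi := by rw [hB, mul_sub, sub_mul, h1, h2, one_mul, mul_one]
  have hc : Commute Dl Ri := by
    refine (LinearMap.commute_mulLeft_right B Xi).sub_left ?_
    refine LinearMap.ext fun y => ?_
    show y * Xi * B = y * B * Xi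
    rw [mul_assoc, mul_assoc, hXiB]
  have hDl : Dl ^ (p - 1) = ∑ a ∈ range p,
      ((-1 : ℤ) ^ (p - 1 - a) * ((p - 1).choose a : ℤ)) •
        (LinearMap.mulLeft k (B ^ a) * LinearMap.mulRight k (B ^ (p - 1 - a))) := by
    rw [show Dl = LinearMap.mulLeft k B + (-LinearMap.mulRight k B) from sub_eq_add_neg _ _,
      ((LinearMap.commute_mulLeft_right B B).neg_right).add_pow, Nat.sub_add_cancel hp.out.pos]
    refine Finset.sum_congr rfl fun a _ => ?_
    have h3 : ((-1 : Module.End k R) ^ (p - 1 - a)) = ((-1 : ℤ) ^ (p - 1 - a)) • 1 := by simp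
    rw [neg_pow, LinearMap.pow_mulLeft, LinearMap.pow_mulRight, h3, smul_mul_assoc, one_mul,
      mul_smul_comm, ← nsmul_eq_mul', ← natCast_zsmul, smul_smul, mul_comm ((p - 1).choose a : ℤ)]
  refine ⟨φ * Xi ^ (p - 1), fun a => (-1 : ℤ) ^ (p - 1 - a) * ((p - 1).choose a : ℤ), ?_⟩
  have h0 : (∑ i ∈ range p, Ad ^ i) φ = ((Dl * Ri) ^ (p - 1)) φ := by
    rw [← hsplit, geom_sum_char k (p := p) Ad]
  rw [LinearMap.sum_apply, Finset.sum_congr rfl fun i _ => hAd i φ] at h0
  rw [h0, hc.mul_pow, LinearMap.pow_mulRight, hDl, Module.End.mul_apply, LinearMap.sum_apply]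
  refine Finset.sum_congr rfl fun a _ => ?_
  rw [LinearMap.smul_apply, Module.End.mul_apply]
  simp only [LinearMap.mulLeft_apply, LinearMap.mulRight_apply, mul_assoc]

end Expansion

section Coset

variable {k : Type*} [Field k] {M : Type*} [AddCommGroup M] [Module k M]
  {G : Type*} [Group G] [Finite G] {p : ℕ} [hp : Fact p.Prime]

/-- A conjugate of a nontrivial element of `P` in the normaliser of `P`. -/
theorem mem_normalizer_of_conj_mem {P : Subgroup G} (hP : Nat.card P = p) (hsq : ¬ p ^ 2 ∣ Nat.card G)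
    {y g : G} (hy : y ∈ P) (hy1 : y ≠ 1)
    (hg : g⁻¹ * y * g ∈ Subgroup.normalizer (P : Set G)) :
    g ∈ Subgroup.normalizer (P : Set G) := by
  set N := Subgroup.normalizer (P : Set G)
  have hord : orderOf y = p := by
    rcases (Nat.dvd_prime hp.out).1 (hP ▸ Subgroup.orderOf_dvd_natCard P hy) with h | h
    · exact absurd (orderOf_eq_one_iff.1 h) hy1
    · exact h
  have hz : g⁻¹ * y * g ∈ P := by
    have : (P.subgroupOf N).Normal := Subgroup.normal_in_normalizer
    have h1 : orderOf ((⟨_, hg⟩ : N) : N ⧸ P.subgroupOf N) ∣ p := by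
      refine orderOf_dvd_of_pow_eq_one ?_
      rw [← QuotientGroup.mk_pow, show (⟨_, hg⟩ : N) ^ p = 1 from Subtype.ext (by
        show (g⁻¹ * y * g) ^ p = 1
        rw [show g⁻¹ * y * g = MulAut.conj g⁻¹ y by simp, ← map_pow, ← hord, pow_orderOf_eq_one,
          map_one]), QuotientGroup.mk_one]
    rcases (Nat.dvd_prime hp.out).1 h1 with h | h
    · exact Subgroup.mem_subgroupOf.1 ((QuotientGroup.eq_one_iff _).1 (orderOf_eq_one_iff.1 h))
    · exfalso
      refine hsq (Dvd.dvd.trans ?_ (Subgroup.card_subgroup_dvd_card N))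
      rw [← (P.subgroupOf N).card_mul_index, sq,
        Nat.card_congr (Subgroup.subgroupOfEquivOfLe Subgroup.le_normalizer).toEquiv, hP]
      refine mul_dvd_mul_left p ?_
      rw [Subgroup.index_eq_card, ← h]
      exact orderOf_dvd_natCard _
  have hgen : ∀ w ∈ P, w ∈ Subgroup.zpowers y := fun w hw => by
    obtain ⟨i, hi⟩ := Subgroup.mem_zpowers_iff.1 (mem_zpowers_of_prime_card
      (g := (⟨y, hy⟩ : P)) (g' := ⟨w, hw⟩) hP fun e => hy1 (congrArg Subtype.val e))
    exact Subgroup.mem_zpowers_iff.2 ⟨i, congrArg Subtype.val hi⟩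
  have hmap : P.map (MulAut.conj g⁻¹).toMonoidHom = P := by
    refine Subgroup.eq_of_le_of_card_ge ?_ ?_
    · rintro _ ⟨w, hw, rfl⟩
      obtain ⟨i, rfl⟩ := Subgroup.mem_zpowers_iff.1 (hgen w hw)
      rw [map_zpow]
      exact zpow_mem (by simpa using hz) i
    · rw [Subgroup.card_map_of_injective (MulAut.conj g⁻¹).injective]
  refine inv_mem_iff.1 (Subgroup.mem_normalizer_iff.2 fun w => ⟨fun hw => ?_, fun hw => ?_⟩)
  · exact hmap.le ⟨w, hw, by simp⟩
  · obtain ⟨w', hw', e⟩ := hmap.ge hw
    have : w' = w := (MulAut.conj g⁻¹).injective (by simpa using e)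
    exact this ▸ hw'

variable (ρ : G →* Module.End k M)

/-- **Averaging.** An endomorphism commuting with the normaliser of `P`, corrected by conjugates
under `P`, commutes with the group. -/
theorem exists_equivariant {P : Subgroup G} (hP : Nat.card P = p) (hsq : ¬ p ^ 2 ∣ Nat.card G)
    {x : G} (hx : x ∈ P) (hx1 : x ≠ 1) (f₀ : Module.End k M)
    (hf : ∀ g ∈ Subgroup.normalizer (P : Set G), ρ g * f₀ = f₀ * ρ g) :
    ∃ f φ : Module.End k M, (∀ g, ρ g * f = f * ρ g) ∧
      f = f₀ + ∑ i ∈ range p, ρ x ^ i * φ * ρ x⁻¹ ^ i := by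
  classical
  set N := Subgroup.normalizer (P : Set G) with hN
  have hxp : x ^ p = 1 := by rw [← hP]; exact congrArg Subtype.val (pow_card_eq_one' (x := (⟨x, hx⟩ : P)))
  haveI := Fintype.ofFinite (G ⧸ N)
  let F : G ⧸ N → Module.End k M := Quotient.lift (fun g => ρ g * f₀ * ρ g⁻¹) fun g g' hgg' => by
    have hn : g⁻¹ * g' ∈ N := QuotientGroup.leftRel_apply.1 hgg'
    obtain ⟨m, hm, rfl⟩ : ∃ m ∈ N, g' = g * m := ⟨_, hn, by group⟩
    show ρ g * f₀ * ρ g⁻¹ = ρ (g * m) * f₀ * ρ (g * m)⁻¹
    rw [map_mul, _root_.mul_inv_rev, map_mul, mul_assoc (ρ g) (ρ m), hf m hm, ← mul_assoc (ρ g),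
      mul_assoc (ρ g * f₀) (ρ m), ← mul_assoc (ρ m), ← map_mul, mul_inv_cancel, map_one, one_mul]
  have hF : ∀ (g : G) (q : G ⧸ N), F (g • q) = ρ g * F q * ρ g⁻¹ := fun g q => by
    induction q using QuotientGroup.induction_on with
    | H a =>
      show ρ (g * a) * f₀ * ρ (g * a)⁻¹ = ρ g * (ρ a * f₀ * ρ a⁻¹) * ρ g⁻¹
      rw [map_mul, _root_.mul_inv_rev, map_mul]
      simp only [mul_assoc]
  have hinv : ∀ g, ρ g⁻¹ * ρ g = 1 := fun g => by rw [← map_mul, inv_mul_cancel, map_one]
  refine ⟨∑ q, F q, ?_⟩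
  -- sums over free orbits
  have hfree : ∀ S : Finset (G ⧸ N), (∀ q ∈ S, x • q ∈ S) → (∀ q ∈ S, q ≠ ((1 : G) : G ⧸ N)) →
      ∃ φ : Module.End k M, ∑ q ∈ S, F q = ∑ i ∈ range p, ρ x ^ i * φ * ρ x⁻¹ ^ i := by
    intro S
    induction S using Finset.strongInduction with
    | _ S ih =>
      intro hst hne
      rcases S.eq_empty_or_nonempty with rfl | ⟨q, hq⟩
      · exact ⟨0, by simp⟩
      have hmem : ∀ i : ℕ, x ^ i • q ∈ S := fun i => by
        induction i with
        | zero => simpa using hq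
        | succ i hi => rw [pow_succ', mul_smul]; exact hst _ hi
      have hinj : Set.InjOn (fun i : ℕ => x ^ i • q) (range p : Finset ℕ) := by
        intro i hi j hj e
        simp only [coe_range, Set.mem_Iio] at hi hj
        wlog hij : i ≤ j generalizing i j with H
        · exact (H e.symm hj hi (le_of_not_ge hij)).symm
        by_contra hne'
        have e' : x ^ (j - i) • q = q := by
          apply MulAction.injective (x ^ i)
          simp only at e ⊢
          rw [← mul_smul, ← pow_add, Nat.add_sub_cancel' hij, e]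
        have hy1 : x ^ (j - i) ≠ 1 := fun h => by
          have h1 : orderOf x ∣ j - i := orderOf_dvd_of_pow_eq_one h
          have h2 : orderOf x = p := by
            rcases (Nat.dvd_prime hp.out).1 (orderOf_dvd_of_pow_eq_one hxp) with h0 | h0
            · exact absurd (orderOf_eq_one_iff.1 h0) hx1
            · exact h0
          have := Nat.le_of_dvd (by omega) (h2 ▸ h1)
          omega
        induction q using QuotientGroup.induction_on with
        | H a =>
          have ha : a⁻¹ * (x ^ (j - i) * a) ∈ N := by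
            have := QuotientGroup.eq.1 (show ((a : G) : G ⧸ N) = ((x ^ (j - i) * a : G) : G ⧸ N)
              from e'.symm)
            exact this
          rw [← mul_assoc] at ha
          have haN := mem_normalizer_of_conj_mem hP hsq (pow_mem hx _) hy1 ha
          exact hne _ hq (QuotientGroup.eq.2 (by simpa using haN))
      set O := (range p).image fun i => x ^ i • q with hO
      have hOS : O ⊆ S := fun r hr => by
        obtain ⟨i, -, rfl⟩ := Finset.mem_image.1 hr
        exact hmem i
      have hlt : S \ O ⊂ S := Finset.sdiff_ssubset hOS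
        ⟨q, Finset.mem_image.2 ⟨0, Finset.mem_range.2 hp.out.pos, by simp⟩⟩
      obtain ⟨φ, hφ⟩ := ih _ hlt (fun r hr => by
        rw [Finset.mem_sdiff] at hr ⊢
        refine ⟨hst r hr.1, fun hxr => hr.2 ?_⟩
        obtain ⟨i, -, hi⟩ := Finset.mem_image.1 hxr
        refine Finset.mem_image.2 ⟨(i + (p - 1)) % p, Finset.mem_range.2 (Nat.mod_lt _ hp.out.pos), ?_⟩
        apply MulAction.injective x
        simp only
        rw [← hi, ← mul_smul, ← pow_succ']
        congr 1
        refine pow_eq_pow_iff_modEq.2 ((Nat.ModEq.of_dvd (orderOf_dvd_of_pow_eq_one hxp)) ?_)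
        show ((i + (p - 1)) % p + 1) % p = i % p
        rw [Nat.mod_add_mod, show i + (p - 1) + 1 = i + p by have := hp.out.pos; omega,
          Nat.add_mod_right]) fun r hr => hne r (Finset.mem_sdiff.1 hr).1
      refine ⟨φ + F q, ?_⟩
      rw [← Finset.sum_sdiff hOS, hφ, hO, Finset.sum_image hinj, ← Finset.sum_add_distrib]
      refine Finset.sum_congr rfl fun i _ => ?_
      rw [hF, mul_add, add_mul, ← inv_pow, map_pow, map_pow]
  obtain ⟨φ, hφ⟩ := hfree (Finset.univ.erase ((1 : G) : G ⧸ N)) (fun q hq => by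
    simp only [Finset.mem_erase, Finset.mem_univ, and_true] at hq ⊢
    intro e
    refine hq (MulAction.injective x (e.trans ?_))
    show ((1 : G) : G ⧸ N) = ((x * 1 : G) : G ⧸ N)
    exact QuotientGroup.eq.2 (by simpa using Subgroup.le_normalizer hx))
    fun q hq => Finset.ne_of_mem_erase hq
  refine ⟨φ, fun g => ?_, ?_⟩
  · rw [Finset.mul_sum, Finset.sum_mul]
    refine Fintype.sum_equiv (MulAction.toPerm g) _ _ fun q => ?_
    rw [MulAction.toPerm_apply, hF, mul_assoc _ (ρ g⁻¹), hinv, mul_one]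
  · rw [← Finset.add_sum_erase _ _ (Finset.mem_univ ((1 : G) : G ⧸ N)), hφ]
    congr 1
    show ρ 1 * f₀ * ρ 1⁻¹ = f₀
    rw [inv_one, map_one, one_mul, mul_one]

end Coset

end CfsgLib.SmallPRep
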