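import Mathlib.RingTheory.Valuation.LocalSubring
import Mathlib.RingTheory.Flat.TorsionFree
import Mathlib.RingTheory.LocalRing.Module
import Mathlib.RingTheory.Localization.Module
import Mathlib.Analysis.Complex.Basic
import Mathlib.LinearAlgebra.Matrix.GeneralLinearGroup.Basic
import Mathlib.GroupTheory.Sylow
import Mathlib.FieldTheory.IsAlgClosed.AlgebraicClosure
import Mathlib.Algebra.CharP.Algebra

/-!
# Reduction modulo a prime of a finite group of complex matrices

`exists_reduction`: without nontrivial normal `p`-subgroups, a finite group of complex matrices is a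
group of matrices over an algebraically closed field of characteristic `p`.
-/

set_option autoImplicit false

namespace CfsgLib.SmallPRep

open Matrix

/-- A valuation subring of `ℂ` whose maximal ideal contains `p`. -/
theorem exists_valuationSubring (p : ℕ) [hp : Fact p.Prime] :
    ∃ V : ValuationSubring ℂ, ∀ h : (p : ℂ) ∈ V, ¬ IsUnit (⟨(p : ℂ), h⟩ : V) := by
  let A : Subring ℂ := (Int.castRingHom ℂ).range
  let q : A := ⟨(p : ℂ), (p : ℤ), by simp⟩
  have hI : Ideal.span {q} ≠ ⊤ := by
    rw [ne_eq, Ideal.span_singleton_eq_top]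
    intro h
    obtain ⟨⟨_, m, rfl⟩, hm⟩ := isUnit_iff_exists_inv.1 h
    have h1 : ((p : ℂ)) * (m : ℂ) = 1 := congrArg Subtype.val hm
    have h2 : (p : ℤ) * m = 1 := by exact_mod_cast h1
    have := Int.eq_one_of_mul_eq_one_right (Int.natCast_nonneg p) h2
    exact hp.out.one_lt.ne' (by exact_mod_cast this)
  obtain ⟨V, -, hV⟩ := Ideal.image_subset_nonunits_valuationSubring _ hI
  refine ⟨V, fun h hu => ?_⟩
  have h1 : (p : ℂ) ∈ V.nonunits := hV ⟨q, Ideal.subset_span rfl, rfl⟩
  have h2 := (ValuationSubring.valuation_eq_one_iff V _).1 hu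
  rw [ValuationSubring.mem_nonunits_iff] at h1
  exact absurd h2 h1.ne

variable {G : Type*} [Group G] [Finite G] {n : ℕ}

/-- A finite group of invertible complex matrices can be conjugated into matrices over a valuation
subring. -/
theorem exists_integral_conj (V : ValuationSubring ℂ) (X : G →* Matrix (Fin n) (Fin n) ℂ) :
    ∃ Y : G →* Matrix (Fin n) (Fin n) V, ∃ Q : (Matrix (Fin n) (Fin n) ℂ)ˣ, ∀ g,
      (Y g).map (fun v : V => (v : ℂ)) = Q.val * X g * Q⁻¹.val := by
  classical
  cases nonempty_fintype G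
  let L : Submodule V (Fin n → ℂ) :=
    Submodule.span V (Set.range fun gi : G × Fin n => X gi.1 *ᵥ Pi.single gi.2 1)
  haveI : Module.Finite V L := Module.Finite.iff_fg.2 (Submodule.fg_span (Set.finite_range _))
  haveI : Module.IsTorsionFree V L := inferInstance
  haveI : Module.Flat V L := Module.Flat.flat_iff_torsion_eq_bot_of_isBezout.2
    (Submodule.isTorsionFree_iff_torsion_eq_bot.1 inferInstance)
  haveI : Module.Free V L := Module.free_of_flat_of_isLocalRing
  let b := Module.Free.chooseBasis V L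
  haveI : Fintype (Module.Free.ChooseBasisIndex V L) := inferInstance
  have hstab : ∀ g : G, ∀ v ∈ L, X g *ᵥ v ∈ L := by
    intro g v hv
    induction hv using Submodule.span_induction with
    | mem v hv =>
      obtain ⟨⟨h, i⟩, rfl⟩ := hv
      rw [Matrix.mulVec_mulVec, ← map_mul]
      exact Submodule.subset_span ⟨(g * h, i), rfl⟩
    | zero => rw [Matrix.mulVec_zero]; exact L.zero_mem
    | add a c _ _ ha hc => rw [Matrix.mulVec_add]; exact L.add_mem ha hc
    | smul r a _ ha =>
      rw [show r • a = (r : ℂ) • a from rfl, Matrix.mulVec_smul]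
      exact L.smul_mem r ha
  -- a complex basis
  have hindV : LinearIndependent V fun i => ((b i : L) : Fin n → ℂ) :=
    b.linearIndependent.map' L.subtype L.ker_subtype
  haveI : IsFractionRing V ℂ := inferInstance
  have hindC : LinearIndependent ℂ fun i => ((b i : L) : Fin n → ℂ) :=
    (LinearIndependent.iff_fractionRing V ℂ).1 hindV
  have hspan : ⊤ ≤ Submodule.span ℂ (Set.range fun i => ((b i : L) : Fin n → ℂ)) := by
    rw [← (Pi.basisFun ℂ (Fin n)).span_eq, Submodule.span_le]
    rintro _ ⟨i, rfl⟩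
    have hmem : (Pi.single i 1 : Fin n → ℂ) ∈ L :=
      Submodule.subset_span ⟨(1, i), by simp only; rw [map_one, Matrix.one_mulVec]⟩
    rw [Pi.basisFun_apply, SetLike.mem_coe,
      show (Pi.single i 1 : Fin n → ℂ) = L.subtype ⟨_, hmem⟩ from rfl, ← b.sum_repr ⟨_, hmem⟩,
      map_sum]
    refine Submodule.sum_mem _ fun j _ => ?_
    rw [map_smul]
    exact Submodule.smul_mem _ ((b.repr ⟨_, hmem⟩ j : V) : ℂ) (Submodule.subset_span ⟨j, rfl⟩)
  let c := Module.Basis.mk hindC hspan
  have hcard : Fintype.card (Module.Free.ChooseBasisIndex V L) = n := by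
    rw [← Module.finrank_eq_card_basis c, Module.finrank_fintype_fun_eq_card, Fintype.card_fin]
  let e := Fintype.equivFinOfCardEq hcard
  let b' := b.reindex e
  let c' := c.reindex e
  -- the integral matrices
  let f : G → L →ₗ[V] L := fun g =>
    { toFun := fun v => ⟨X g *ᵥ v, hstab g v v.2⟩
      map_add' := fun u v => Subtype.ext (by
        show X g *ᵥ ((u : Fin n → ℂ) + (v : Fin n → ℂ)) = X g *ᵥ (u : Fin n → ℂ) + X g *ᵥ (v : Fin n → ℂ)
        exact Matrix.mulVec_add _ _ _)
      map_smul' := fun r v => Subtype.ext (by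
        show X g *ᵥ ((r : ℂ) • (v : Fin n → ℂ)) = (r : ℂ) • (X g *ᵥ (v : Fin n → ℂ))
        exact Matrix.mulVec_smul _ _ _) }
  let F : G →* Module.End V L :=
    { toFun := f
      map_one' := LinearMap.ext fun v => Subtype.ext (by simp [f])
      map_mul' := fun g h => LinearMap.ext fun v => Subtype.ext (by
        simp [f, Matrix.mulVec_mulVec]) }
  let Y : G →* Matrix (Fin n) (Fin n) V :=
    (LinearMap.toMatrixAlgEquiv b').toMulEquiv.toMonoidHom.comp F
  let e0 := Pi.basisFun ℂ (Fin n)
  refine ⟨Y, ⟨c'.toMatrix e0, e0.toMatrix c', c'.toMatrix_mul_toMatrix_flip e0,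
    e0.toMatrix_mul_toMatrix_flip c'⟩, fun g => ?_⟩
  have hc' : ∀ i, c' i = ((b' i : L) : Fin n → ℂ) := fun i => by
    simp [c', b', c, Module.Basis.mk_apply]
  have hY : (Y g).map (fun v : V => (v : ℂ)) = LinearMap.toMatrix c' c' (Matrix.toLin' (X g)) := by
    ext i j
    rw [LinearMap.toMatrix_apply, Matrix.map_apply, Matrix.toLin'_apply, hc']
    have h1 : X g *ᵥ ((b' j : L) : Fin n → ℂ) = ((f g (b' j) : L) : Fin n → ℂ) := rfl
    rw [h1, show ((f g (b' j) : L) : Fin n → ℂ) = L.subtype (f g (b' j)) from rfl]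
    conv_rhs => rw [← b'.sum_repr (f g (b' j))]
    rw [map_sum, map_sum, Finsupp.finsetSum_apply, Finset.sum_eq_single i]
    · rw [map_smul, Submodule.subtype_apply, ← hc',
        show ∀ (r : V) (w : Fin n → ℂ), r • w = (r : ℂ) • w from fun _ _ => rfl, map_smul,
        c'.repr_self, Finsupp.smul_apply, Finsupp.single_eq_same, smul_eq_mul, mul_one]
      show ((LinearMap.toMatrix b' b' (f g)) i j : ℂ) = _
      rw [LinearMap.toMatrix_apply]
    · intro k _ hk
      rw [map_smul, Submodule.subtype_apply, ← hc',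
        show ∀ (r : V) (w : Fin n → ℂ), r • w = (r : ℂ) • w from fun _ _ => rfl, map_smul,
        c'.repr_self, Finsupp.smul_apply, Finsupp.single_eq_of_ne (Ne.symm hk), smul_zero]
    · exact fun h => absurd (Finset.mem_univ i) h
  rw [hY, ← basis_toMatrix_mul_linearMap_toMatrix_mul_basis_toMatrix c' e0 c' e0]
  simp [e0, LinearMap.toMatrix'_toLin', LinearMap.toMatrix_eq_toMatrix']

/-- A matrix congruent to one, of finite order prime to `p`, is one. -/
theorem eq_one_of_map_eq_one {R S : Type*} [CommRing R] [IsLocalRing R] [Field S] (f : R →+* S)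
    (hf : IsLocalHom f) (g : Matrix (Fin n) (Fin n) R) (l : ℕ) (hl : (l : S) ≠ 0)
    (hg : g ^ l = 1) (h1 : g.map f = 1) : g = 1 := by
  have h0 : (∑ i ∈ Finset.range l, g ^ i) * (g - 1) = 0 := by rw [geom_sum_mul, hg, sub_self]
  have hu : IsUnit (∑ i ∈ Finset.range l, g ^ i) := by
    rw [Matrix.isUnit_iff_isUnit_det]
    refine hf.map_nonunit _ ?_
    rw [RingHom.map_det, map_sum]
    have : ∀ i ∈ Finset.range l, f.mapMatrix (g ^ i) = 1 := fun i _ => by
      rw [map_pow, RingHom.mapMatrix_apply, h1, one_pow]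
    rw [Finset.sum_congr rfl this, Finset.sum_const, Finset.card_range, nsmul_one, isUnit_iff_ne_zero]
    rw [← Matrix.diagonal_natCast, Matrix.det_diagonal]
    simp [Finset.prod_const, hl]
  exact sub_eq_zero.1 ((hu.mul_right_eq_zero).1 h0)

/-- **Reduction.** -/
theorem exists_reduction (p : ℕ) [hp : Fact p.Prime] (X : G →* Matrix (Fin n) (Fin n) ℂ)
    (hX : Function.Injective X)
    (hN : ∀ N : Subgroup G, N.Normal → IsPGroup p N → N = ⊥) :
    ∃ (k : Type) (_ : Field k) (_ : CharP k p) (_ : IsAlgClosed k)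
      (Y : G →* Matrix (Fin n) (Fin n) k), Function.Injective Y := by
  obtain ⟨V, hV⟩ := exists_valuationSubring p
  obtain ⟨Y, Q, hY⟩ := exists_integral_conj V X
  let R := IsLocalRing.ResidueField V
  let k := AlgebraicClosure R
  let f : V →+* k := (algebraMap R k).comp (IsLocalRing.residue V)
  have hfloc : IsLocalHom f := by
    refine ⟨fun v hv => ?_⟩
    by_contra hnu
    have : IsLocalRing.residue V v = 0 :=
      Ideal.Quotient.eq_zero_iff_mem.2 ((IsLocalRing.mem_maximalIdeal _).2 hnu)
    refine hv.ne_zero ?_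
    show algebraMap R k (IsLocalRing.residue V v) = 0
    rw [this, map_zero]
  have hp0 : (p : k) = 0 := by
    have hmem : (p : ℂ) ∈ V := natCast_mem V p
    by_contra hne
    refine hV hmem (hfloc.map_nonunit _ ?_)
    rw [isUnit_iff_ne_zero, show (⟨(p : ℂ), hmem⟩ : V) = (p : V) from Subtype.ext (by simp),
      map_natCast]
    exact hne
  haveI : CharP k p := (CharP.charP_iff_prime_eq_zero hp.out).2 hp0
  let Z : G →* Matrix (Fin n) (Fin n) k := f.mapMatrix.toMonoidHom.comp Y
  refine ⟨k, inferInstance, inferInstance, inferInstance, Z, ?_⟩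
  rw [← MonoidHom.ker_eq_bot_iff]
  refine hN _ (MonoidHom.normal_ker Z) fun g => ?_
  -- every prime divisor of the order is `p`
  obtain ⟨g, hg⟩ := g
  suffices h : ∃ e : ℕ, orderOf g = p ^ e by
    obtain ⟨e, he⟩ := h
    exact ⟨e, Subtype.ext (by rw [SubmonoidClass.coe_pow, ← he, pow_orderOf_eq_one]; rfl)⟩
  refine ⟨_, Nat.eq_prime_pow_of_unique_prime_dvd (orderOf_pos g).ne' fun {l} hl hld => ?_⟩
  by_contra hne
  have hord : orderOf (g ^ (orderOf g / l)) = l := by
    rw [orderOf_pow_of_dvd (Nat.div_pos (Nat.le_of_dvd (orderOf_pos g) hld) hl.pos).ne'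
      (Nat.div_dvd_of_dvd hld), Nat.div_div_self hld (orderOf_pos g).ne']
  set t := g ^ (orderOf g / l)
  have h1 : (Y t).map f = 1 := by
    have : Z t = 1 := by rw [map_pow, MonoidHom.mem_ker.1 hg, one_pow]
    exact this
  have hl0 : (l : k) ≠ 0 := fun h => hne ((Nat.prime_dvd_prime_iff_eq hp.out hl).1
    ((CharP.cast_eq_zero_iff k p l).1 h)).symm
  have h2 := eq_one_of_map_eq_one f hfloc (Y t) l hl0
    (by rw [← map_pow, ← hord, pow_orderOf_eq_one, map_one]) h1
  have h3 := hY t
  rw [h2, Matrix.map_one _ (by simp) (by simp)] at h3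
  have h4 : X t = 1 := by
    calc X t = Q⁻¹.val * (Q.val * X t * Q⁻¹.val) * Q.val := by
          rw [← mul_assoc, ← mul_assoc, Units.inv_mul, one_mul, mul_assoc, Units.inv_mul, mul_one]
      _ = 1 := by rw [← h3, mul_one, Units.inv_mul]
  have h5 := hX (h4.trans X.map_one.symm)
  rw [h5, orderOf_one] at hord
  exact hl.one_lt.ne hord

end CfsgLib.SmallPRep
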