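import Cfsg.Agent.SmallPRep.ToPGL
import Cfsg.Agent.SmallPRep.Reduction

/-!
# Small irreducible representations in characteristic `p` and `PGL(2, p)`
-/

set_option autoImplicit false

namespace CfsgLib.SmallPRep

open Matrix MulAction
open scoped MatrixGroups

universe u v w

section Sylow

variable {G : Type*} [Group G] [Finite G] {p : ℕ} [hp : Fact p.Prime]

/-- Two subgroups of order `p` are conjugate when `p²` does not divide the order. -/
theorem exists_conj_mem_zpowers (hsq : ¬ p ^ 2 ∣ Nat.card G) {a b : G} (ha : orderOf a = p)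
    (hb : orderOf b = p) : ∃ g : G, g * a * g⁻¹ ∈ Subgroup.zpowers b := by
  have hS : ∀ c : G, orderOf c = p → ∃ S : Sylow p G, (S : Subgroup G) = Subgroup.zpowers c := by
    intro c hc
    obtain ⟨S, hS⟩ := (IsPGroup.of_card (p := p) (n := 1)
      (show Nat.card (Subgroup.zpowers c) = p ^ 1 by rw [Nat.card_zpowers, hc, pow_one])).exists_le_sylow
    refine ⟨S, (Subgroup.eq_of_le_of_card_ge hS ?_).symm⟩
    obtain ⟨e, he⟩ := S.isPGroup'.exists_card_eq
    rw [Nat.card_zpowers, hc, he]
    rcases Nat.lt_or_ge e 2 with h | h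
    · exact (Nat.pow_le_pow_right hp.out.pos (Nat.le_of_lt_succ h)).trans (pow_one p).le
    · exact absurd ((pow_dvd_pow p h).trans (he ▸ Subgroup.card_subgroup_dvd_card _)) hsq
  obtain ⟨S, hSa⟩ := hS a ha
  obtain ⟨T, hTb⟩ := hS b hb
  obtain ⟨g, hg⟩ := MulAction.exists_smul_eq G S T
  refine ⟨g, ?_⟩
  rw [← hTb, ← hg, Sylow.coe_subgroup_smul]
  exact Subgroup.smul_mem_pointwise_smul a (MulAut.conj g) _ (hSa ▸ Subgroup.mem_zpowers a)

theorem orderOf_map_eq {H : Type*} [Group H] {x : G} (hx : orderOf x = p) (φ : G →* H)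
    (h : φ x ≠ 1) : orderOf (φ x) = p :=
  orderOf_eq_prime (by rw [← map_pow, ← hx, pow_orderOf_eq_one, map_one]) h

/-- A homomorphism nontrivial on an element of order `p` has kernel of order prime to `p`. -/
theorem not_dvd_card_ker (hsq : ¬ p ^ 2 ∣ Nat.card G) {H : Type*} [Group H] {x : G}
    (hx : orderOf x = p) (φ : G →* H) (h : φ x ≠ 1) : ¬ p ∣ Nat.card φ.ker := by
  intro hd
  obtain ⟨a, ha⟩ := exists_prime_orderOf_dvd_card' p hd
  rw [← Subgroup.orderOf_coe] at ha
  obtain ⟨g, hg⟩ := exists_conj_mem_zpowers hsq hx ha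
  refine h ?_
  have h1 : g * x * g⁻¹ ∈ φ.ker := (Subgroup.zpowers_le.2 a.2) hg
  have h2 := (MonoidHom.normal_ker φ).conj_mem _ h1 g⁻¹
  simpa [mul_assoc] using h2

/-- Conjugacy among the powers of the image of `x` lifts. -/
theorem exists_conj_lift (hsq : ¬ p ^ 2 ∣ Nat.card G) {H : Type*} [Group H] {x : G}
    (hx : orderOf x = p) (φ : G →* H) (h : φ x ≠ 1) {u d : H} (hu : u ∈ φ.range) (hd : d ∈ φ.range)
    (hup : orderOf u = p) {t : ℕ} (hdu : d * u * d⁻¹ = u ^ t) :
    ∃ g : G, g * x * g⁻¹ = x ^ t := by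
  -- move `u` to the group generated by `φ x`
  have hsqR : ¬ p ^ 2 ∣ Nat.card φ.range := fun e => hsq (e.trans (Subgroup.card_range_dvd φ))
  haveI : Finite φ.range := Finite.of_surjective _ φ.rangeRestrict_surjective
  obtain ⟨⟨r, hr⟩, hr'⟩ := exists_conj_mem_zpowers (G := φ.range) hsqR
    (a := ⟨φ x, x, rfl⟩) (b := ⟨u, hu⟩)
    (by rw [← Subgroup.orderOf_coe]; exact orderOf_map_eq hx φ h) (by rwa [← Subgroup.orderOf_coe])
  obtain ⟨j, hj⟩ := hr'
  have hj' : u ^ j = r * φ x * r⁻¹ := congrArg Subtype.val hj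
  have hkey : (r⁻¹ * d * r) * φ x * (r⁻¹ * d * r)⁻¹ = φ x ^ t := by
    have h1 : φ x = r⁻¹ * u ^ j * r := by rw [hj']; group
    have h2 : d * u ^ j * d⁻¹ = (u ^ j) ^ t := by
      rw [← conj_zpow, hdu, ← zpow_natCast u t, ← _root_.zpow_mul, ← zpow_natCast, ← _root_.zpow_mul,
        mul_comm]
    calc (r⁻¹ * d * r) * φ x * (r⁻¹ * d * r)⁻¹ = r⁻¹ * (d * u ^ j * d⁻¹) * r := by rw [h1]; group
      _ = (r⁻¹ * u ^ j * r) ^ t := by
          rw [h2]
          have := conj_pow (a := r⁻¹) (b := u ^ j) (i := t)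
          rw [inv_inv] at this
          exact this.symm
      _ = _ := by rw [← h1]
  obtain ⟨g, hg⟩ : r⁻¹ * d * r ∈ φ.range := mul_mem (mul_mem (inv_mem hr) hd) hr
  -- Sylow inside the preimage
  set M := (Subgroup.zpowers (φ x)).comap φ with hM
  have hgM : g * x * g⁻¹ ∈ M := by
    rw [hM, Subgroup.mem_comap, map_mul, map_mul, map_inv, hg, hkey]
    exact pow_mem (Subgroup.mem_zpowers _) t
  obtain ⟨⟨c, hc⟩, hc'⟩ := exists_conj_mem_zpowers (G := M)
    (fun e => hsq (e.trans (Subgroup.card_subgroup_dvd_card M)))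
    (a := ⟨g * x * g⁻¹, hgM⟩) (b := ⟨x, by simp [hM]⟩)
    (by rw [← Subgroup.orderOf_coe]; simpa using
      ((orderOf_map_conj g x).trans hx))
    (by rw [← Subgroup.orderOf_coe]; exact hx)
  obtain ⟨i, hi⟩ := hc'
  have hi' : x ^ i = c * (g * x * g⁻¹) * c⁻¹ := congrArg Subtype.val hi
  refine ⟨c * g, ?_⟩
  have h1 : φ (x ^ i) = φ (x ^ (t : ℤ)) := by
    obtain ⟨l, hl⟩ := Subgroup.mem_comap.1 hc
    rw [hi', map_mul, map_mul, map_inv, ← hl, map_mul, map_mul, map_inv, hg, hkey, zpow_natCast,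
      map_pow, ← zpow_natCast (φ x) t, ← _root_.zpow_add, ← _root_.zpow_neg, ← _root_.zpow_add]
    congr 1
    ring
  have h2 : x ^ i = x ^ (t : ℤ) := by
    rw [map_zpow, map_zpow, zpow_eq_zpow_iff_modEq, orderOf_map_eq hx φ h] at h1
    rw [zpow_eq_zpow_iff_modEq, hx]
    exact h1
  rw [zpow_natCast] at h2
  rw [← h2, hi']
  group
where
  orderOf_map_conj (g x : G) : orderOf (g * x * g⁻¹) = orderOf x :=
    MulEquiv.orderOf_eq (MulAut.conj g) x

end Sylow

section Projective

variable {p : ℕ} [hp : Fact p.Prime]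

/-- The unipotent element of the special linear group. -/
def unip {F : Type*} [CommRing F] (b : F) : Matrix.SpecialLinearGroup (Fin 2) F :=
  ⟨!![1, b; 0, 1], by simp [Matrix.det_fin_two]⟩

@[simp]
theorem unip_val {F : Type*} [CommRing F] (b : F) : (unip b).val = !![1, b; 0, 1] := rfl

theorem unip_mul {F : Type*} [CommRing F] (b c : F) : unip b * unip c = unip (b + c) := by
  refine Subtype.ext (Matrix.ext fun i j => ?_)
  fin_cases i <;> fin_cases j <;> simp [Matrix.SpecialLinearGroup.coe_mul, Matrix.mul_apply, Fin.sum_univ_two, add_comm]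

theorem unip_zero {F : Type*} [CommRing F] : unip (0 : F) = 1 := by
  refine Subtype.ext (Matrix.ext fun i j => ?_)
  fin_cases i <;> fin_cases j <;> simp

theorem unip_pow {F : Type*} [CommRing F] (n : ℕ) : unip (1 : F) ^ n = unip (n : F) := by
  induction n with
  | zero => simp [unip_zero]
  | succ n ih => rw [pow_succ, ih, unip_mul]; simp

theorem toPGL_unip_eq_one_iff {F : Type*} [Field F] (b : F) :
    Matrix.SpecialLinearGroup.toPGL (unip b) = 1 ↔ b = 0 := by
  rw [MonoidHom.comp_apply, CfsgLib.Dickson.mk_eq_one_iff]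
  simp [Matrix.SpecialLinearGroup.coe_GL_coe_matrix]

/-- `q` divides the order of a group containing `PSL(2, q)`. -/
theorem card_dvd_of_toPGL_le {F : Type*} [Field F] [Finite F] (R : Subgroup PGL(2, F))
    (hR : (Matrix.SpecialLinearGroup.toPGL (n := Fin 2) (R := F)).range ≤ R) :
    Nat.card F ∣ Nat.card R := by
  let j : Multiplicative F →* R :=
    { toFun := fun b => ⟨Matrix.SpecialLinearGroup.toPGL (unip (Multiplicative.toAdd b)),
        hR ⟨_, rfl⟩⟩
      map_one' := Subtype.ext ((congrArg _ (by rw [toAdd_one, unip_zero])).trans (map_one _))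
      map_mul' := fun b c => Subtype.ext
        ((congrArg Matrix.SpecialLinearGroup.toPGL
          (show unip (Multiplicative.toAdd (b * c)) = unip (Multiplicative.toAdd b) *
            unip (Multiplicative.toAdd c) from by rw [toAdd_mul, unip_mul])).trans (map_mul _ _ _)) }
  have hj : Function.Injective j := by
    rw [injective_iff_map_eq_one]
    intro b hb
    exact (toPGL_unip_eq_one_iff (Multiplicative.toAdd b)).1 (congrArg Subtype.val hb)
  exact (Nat.card_congr (Multiplicative.ofAdd (α := F))).dvd.trans (Subgroup.card_dvd_of_injective j hj)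

theorem pglMap_comp {L K M : Type*} [Field L] [Field K] [Field M] (f : L →+* K) (g : K →+* M)
    (s : PGL(2, L)) :
    CfsgLib.Dickson.pglMap g (CfsgLib.Dickson.pglMap f s) = CfsgLib.Dickson.pglMap (g.comp f) s := by
  induction s using Matrix.ProjGenLinGroup.induction_on with
  | mk a => rfl

theorem pglMap_toPGL {L K : Type*} [Field L] [Field K] (f : L →+* K)
    (a : Matrix.SpecialLinearGroup (Fin 2) L) :
    CfsgLib.Dickson.pglMap f (Matrix.SpecialLinearGroup.toPGL a) =
      Matrix.SpecialLinearGroup.toPGL (Matrix.SpecialLinearGroup.map f a) := by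
  show Matrix.ProjGenLinGroup.mk _ = Matrix.ProjGenLinGroup.mk _
  congr 1
  ext i l
  rfl

variable {k : Type*} [Field k] [CharP k p] [IsAlgClosed k] {G : Type*} [Group G] [Finite G]

/-- **Classification of the image.** -/
theorem exists_toPGL_zmod (hsq : ¬ p ^ 2 ∣ Nat.card G) (h5 : 5 ≤ p) {x : G} (hx : orderOf x = p)
    [DecidableEq k] (ψ : G →* PGL(2, k)) (hψx : ψ x ≠ 1) (hfix : ∀ z : OnePoint k, ∃ g, ψ g • z ≠ z) :
    ∃ φ : G →* PGL(2, ZMod p), φ.ker = ψ.ker ∧
      (φ.range = ⊤ ∨
        φ.range = (Matrix.SpecialLinearGroup.toPGL (n := Fin 2) (R := ZMod p)).range) := by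
  classical
  set H := ψ.range with hH
  haveI : Finite H := Finite.of_surjective _ ψ.rangeRestrict_surjective
  have hpH : p ∣ Nat.card H := by
    rw [← orderOf_map_eq hx ψ hψx, ← Nat.card_zpowers]
    exact Subgroup.card_dvd_of_le (Subgroup.zpowers_le.2 ⟨x, rfl⟩)
  have hnd : ∀ m : ℕ, 0 < m → m ≤ 4 → ¬ p ∣ m := fun m h0 h4 hd => by
    have := Nat.le_of_dvd h0 hd
    omega
  rcases CfsgLib.Dickson.classify_pgl (p := p) H with
    ⟨z, hz⟩ | ⟨n, -, hn, ⟨e⟩⟩ | ⟨hn, ⟨e⟩⟩ | ⟨hn, ⟨e⟩⟩ | ⟨hn, ⟨e⟩⟩ | ⟨L, c, hLfin, hcase⟩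
  · obtain ⟨g, hg⟩ := hfix z
    exact absurd (hz ⟨ψ g, g, rfl⟩) hg
  · rw [Nat.card_congr e.toEquiv, DihedralGroup.nat_card, hp.out.dvd_mul] at hpH
    exact absurd (hpH.resolve_right hn) (hnd 2 two_pos (by omega))
  · rw [Nat.card_congr e.toEquiv, nat_card_alternatingGroup, Nat.card_eq_fintype_card,
      Fintype.card_fin] at hpH
    exact absurd hpH (by simpa [Nat.factorial] using hn)
  · rw [Nat.card_congr e.toEquiv, Nat.card_perm, Nat.card_eq_fintype_card, Fintype.card_fin] at hpH
    exact absurd hpH (by simpa [Nat.factorial] using hn)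
  · rw [Nat.card_congr e.toEquiv, nat_card_alternatingGroup, Nat.card_eq_fintype_card,
      Fintype.card_fin] at hpH
    refine absurd hpH ?_
    rcases hn with hn | hn
    · simpa [Nat.factorial] using hn
    · omega
  -- the main case
  set R := H.map (MulAut.conj c).toMonoidHom with hR
  haveI := Fintype.ofFinite L
  have hcardR : Nat.card R = Nat.card H :=
    Subgroup.card_map_of_injective (MulAut.conj c).injective
  set TL := (Matrix.SpecialLinearGroup.toPGL (n := Fin 2) (R := L)).range with hTL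
  obtain ⟨R', hR', hR'c⟩ : ∃ R' : Subgroup PGL(2, L), TL ≤ R' ∧
      R = R'.map (CfsgLib.Dickson.pglMap L.subtype) ∧ (R' = ⊤ ∨ R' = TL) := by
    rcases hcase with h | ⟨-, h⟩
    · exact ⟨⊤, le_top, by rw [h, MonoidHom.range_eq_map], Or.inl rfl⟩
    · exact ⟨TL, le_rfl, by rw [h, hTL, MonoidHom.map_range], Or.inr rfl⟩
  obtain ⟨n, -, hcardL⟩ := FiniteField.card L p
  have hLcard : Fintype.card L = p := by
    have h1 : Nat.card L ∣ Nat.card G := by
      refine (card_dvd_of_toPGL_le R' hR').trans ?_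
      rw [← Subgroup.card_map_of_injective (CfsgLib.Dickson.pglMap_injective L.subtype), ← hR'c.1,
        hcardR]
      exact Subgroup.card_range_dvd ψ
    rw [Nat.card_eq_fintype_card, hcardL] at h1
    rcases Nat.lt_or_ge (n : ℕ) 2 with hn | hn
    · rw [hcardL, show (n : ℕ) = 1 by have := n.pos; omega, pow_one]
    · exact absurd ((pow_dvd_pow p hn).trans h1) hsq
  let e : ZMod p ≃+* L := ZMod.ringEquivOfPrime L hp.out hLcard
  let j := CfsgLib.Dickson.pglMap (L.subtype.comp e.toRingHom)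
  have hj : ∀ s, j s = CfsgLib.Dickson.pglMap L.subtype (CfsgLib.Dickson.pglMap e.toRingHom s) :=
    fun s => (pglMap_comp _ _ s).symm
  have hesurj : Function.Surjective (CfsgLib.Dickson.pglMap e.toRingHom) := fun s => by
    refine ⟨CfsgLib.Dickson.pglMap e.symm.toRingHom s, ?_⟩
    rw [pglMap_comp]
    induction s using Matrix.ProjGenLinGroup.induction_on with
    | mk a =>
      rw [CfsgLib.Dickson.pglMap_mk]
      congr 1
      ext i l
      simp
  set T := (Matrix.SpecialLinearGroup.toPGL (n := Fin 2) (R := ZMod p)).range with hT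
  have hTT : T.map (CfsgLib.Dickson.pglMap e.toRingHom) = TL := by
    apply le_antisymm
    · rintro _ ⟨_, ⟨a, rfl⟩, rfl⟩
      exact ⟨_, (pglMap_toPGL _ a).symm⟩
    · rintro _ ⟨a, rfl⟩
      refine ⟨_, ⟨Matrix.SpecialLinearGroup.map e.symm.toRingHom a, rfl⟩, ?_⟩
      rw [pglMap_toPGL]
      congr 1
      ext i l
      simp
  obtain ⟨S, hS, hSc⟩ : ∃ S : Subgroup PGL(2, ZMod p), R = S.map j ∧ (S = ⊤ ∨ S = T) := by
    obtain ⟨hR1, hR2⟩ := hR'c
    rcases hR2 with h2 | h2
    · refine ⟨⊤, ?_, Or.inl rfl⟩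
      rw [hR1, h2, show j = (CfsgLib.Dickson.pglMap L.subtype).comp (CfsgLib.Dickson.pglMap e.toRingHom)
        from MonoidHom.ext hj, ← Subgroup.map_map, Subgroup.map_top_of_surjective _ hesurj]
    · refine ⟨T, ?_, Or.inr rfl⟩
      rw [hR1, h2, show j = (CfsgLib.Dickson.pglMap L.subtype).comp (CfsgLib.Dickson.pglMap e.toRingHom)
        from MonoidHom.ext hj, ← Subgroup.map_map, hTT]
  have hjinj : Function.Injective j := CfsgLib.Dickson.pglMap_injective _
  let ψ' : G →* PGL(2, k) := (MulAut.conj c).toMonoidHom.comp ψ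
  have hmem : ∀ g, ψ' g ∈ j.range := fun g => by
    have : ψ' g ∈ R := ⟨ψ g, ⟨g, rfl⟩, rfl⟩
    rw [hS] at this
    obtain ⟨s, -, hs⟩ := this
    exact ⟨s, hs⟩
  let φ : G →* PGL(2, ZMod p) :=
    (MonoidHom.ofInjective hjinj).symm.toMonoidHom.comp (ψ'.codRestrict j.range hmem)
  have hφ : ∀ g, j (φ g) = ψ' g := fun g => by
    show ((MonoidHom.ofInjective hjinj ((MonoidHom.ofInjective hjinj).symm ⟨ψ' g, hmem g⟩)) :
      PGL(2, k)) = ψ' g
    rw [MulEquiv.apply_symm_apply]
  refine ⟨φ, ?_, ?_⟩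
  · ext g
    rw [MonoidHom.mem_ker, MonoidHom.mem_ker]
    constructor
    · intro hg
      have := hφ g
      rw [hg, map_one] at this
      exact (MulAut.conj c).injective (this.symm.trans (map_one _).symm)
    · intro hg
      apply hjinj
      rw [hφ, map_one]
      show MulAut.conj c (ψ g) = 1
      rw [hg, map_one]
  · have : φ.range = S := by
      apply Subgroup.map_injective hjinj
      rw [← hS, hR, hH, MonoidHom.map_range, MonoidHom.map_range]
      congr 1
      exact MonoidHom.ext hφ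
    rw [this]
    exact hSc

/-- The squares, resp. all residues, are realised by conjugation. -/
theorem exists_conj_sq_pow (hsq : ¬ p ^ 2 ∣ Nat.card G) {x : G} (hx : orderOf x = p)
    (φ : G →* PGL(2, ZMod p)) (hφx : φ x ≠ 1)
    (hle : (Matrix.SpecialLinearGroup.toPGL (n := Fin 2) (R := ZMod p)).range ≤ φ.range)
    (s : ℕ) (hs : ¬ p ∣ s) : ∃ g : G, g * x * g⁻¹ = x ^ (s ^ 2) := by
  have hs0 : (s : ZMod p) ≠ 0 := by rwa [ne_eq, ZMod.natCast_eq_zero_iff]
  let d : Matrix.SpecialLinearGroup (Fin 2) (ZMod p) :=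
    ⟨!![(s : ZMod p), 0; 0, (s : ZMod p)⁻¹], by simp [Matrix.det_fin_two, hs0]⟩
  have hd : d * unip 1 * d⁻¹ = unip (1 : ZMod p) ^ (s ^ 2) := by
    rw [mul_inv_eq_iff_eq_mul, unip_pow]
    refine Subtype.ext (Matrix.ext fun i j => ?_)
    show (!![(s : ZMod p), 0; 0, (s : ZMod p)⁻¹] * !![(1 : ZMod p), 1; 0, 1]) i j =
      (!![(1 : ZMod p), ((s ^ 2 : ℕ) : ZMod p); 0, 1] * !![(s : ZMod p), 0; 0, (s : ZMod p)⁻¹]) i j
    fin_cases i <;> fin_cases j <;>
      simp [ Matrix.mul_apply, Fin.sum_univ_two, pow_two, mul_assoc, hs0]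
  refine exists_conj_lift hsq hx φ hφx (hle ⟨unip 1, rfl⟩) (hle ⟨d, rfl⟩) (orderOf_eq_prime ?_ ?_)
    (by rw [← map_inv, ← map_mul, ← map_mul, hd, map_pow])
  · rw [← map_pow, unip_pow, ZMod.natCast_self, unip_zero, map_one]
  · rw [Ne, toPGL_unip_eq_one_iff]
    exact one_ne_zero

theorem exists_conj_pow_of_range_eq_top (hsq : ¬ p ^ 2 ∣ Nat.card G) {x : G} (hx : orderOf x = p)
    (φ : G →* PGL(2, ZMod p)) (hφx : φ x ≠ 1) (htop : φ.range = ⊤)
    (s : ℕ) (hs : ¬ p ∣ s) : ∃ g : G, g * x * g⁻¹ = x ^ s := by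
  have hs0 : (s : ZMod p) ≠ 0 := by rwa [ne_eq, ZMod.natCast_eq_zero_iff]
  have hmem : ∀ y : PGL(2, ZMod p), y ∈ φ.range := fun y => htop ▸ Subgroup.mem_top y
  refine exists_conj_lift hsq hx φ hφx (u := Matrix.SpecialLinearGroup.toPGL (unip (1 : ZMod p)))
    (d := Matrix.ProjGenLinGroup.mk (CfsgLib.Dickson.diagT (Units.mk0 (s : ZMod p) hs0))) (hmem _)
    (hmem _) (orderOf_eq_prime ?_ ?_) ?_
  · rw [← map_pow, unip_pow, ZMod.natCast_self, unip_zero, map_one]
  · rw [Ne, toPGL_unip_eq_one_iff]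
    exact one_ne_zero
  · rw [← map_pow, unip_pow]
    show Matrix.ProjGenLinGroup.mk _ * Matrix.ProjGenLinGroup.mk _ * (Matrix.ProjGenLinGroup.mk _)⁻¹
      = Matrix.ProjGenLinGroup.mk _
    rw [← map_inv, ← map_mul, ← map_mul]
    congr 1
    rw [mul_inv_eq_iff_eq_mul]
    ext i j
    fin_cases i <;> fin_cases j <;>
      simp [Matrix.SpecialLinearGroup.coe_GL_coe_matrix, CfsgLib.Dickson.diagT, Matrix.GeneralLinearGroup.mkOfDetNeZero, Matrix.mul_apply,
        Fin.sum_univ_two]

end Projective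

section Factors

variable {k : Type u} [Field k] {G : Type v} [Group G] {V : Type w} [AddCommGroup V] [Module k V]

/-- An element trivial on all irreducible factors is unipotent. -/
theorem isNilpotent_sub_one (N : ℕ) (g : G)
    (hg : ∀ (W : Type w) [AddCommGroup W] [Module k W] [FiniteDimensional k W]
      (σ : Representation k G W), Module.finrank k W ≤ N →
      (∀ U : Submodule k W, (∀ g, ∀ v ∈ U, σ g v ∈ U) → U = ⊥ ∨ U = ⊤) → σ g = 1)
    [FiniteDimensional k V] (ρ : Representation k G V) (hV : Module.finrank k V ≤ N) :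
    IsNilpotent (ρ g - 1) := by
  induction hd : Module.finrank k V using Nat.strong_induction_on generalizing V with
  | _ d ih =>
  subst hd
  by_cases hirr : ∀ U : Submodule k V, (∀ g, ∀ v ∈ U, ρ g v ∈ U) → U = ⊥ ∨ U = ⊤
  · rw [hg V ρ hV hirr, sub_self]
    exact IsNilpotent.zero
  push Not at hirr
  obtain ⟨U, hU, hbot, htop⟩ := hirr
  let σU : Representation k G U :=
    { toFun := fun h => (ρ h).restrict (hU h)
      map_one' := LinearMap.ext fun v => Subtype.ext (by simp)
      map_mul' := fun a b => LinearMap.ext fun v => Subtype.ext (by simp) }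
  let σQ : Representation k G (V ⧸ U) :=
    { toFun := fun h => Submodule.mapQ U U (ρ h) (hU h)
      map_one' := Submodule.linearMap_qext _ (LinearMap.ext fun v => by simp)
      map_mul' := fun a b => Submodule.linearMap_qext _ (LinearMap.ext fun v => by simp) }
  have hlt : Module.finrank k U < Module.finrank k V := Submodule.finrank_lt htop
  have hlt' : Module.finrank k (V ⧸ U) < Module.finrank k V := by
    have := U.finrank_quotient_add_finrank
    have : 0 < Module.finrank k U := Nat.pos_of_ne_zero fun e => hbot (Submodule.finrank_eq_zero.1 e)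
    omega
  obtain ⟨a, ha⟩ := ih _ hlt σU (by omega) rfl
  obtain ⟨b, hb⟩ := ih _ hlt' σQ (by omega) rfl
  have hq : ∀ (j : ℕ) (v : V), U.mkQ (((ρ g - 1) ^ j) v) = ((σQ g - 1) ^ j) (U.mkQ v) := by
    intro j
    induction j with
    | zero => simp
    | succ j ihj =>
      intro v
      rw [pow_succ, pow_succ, Module.End.mul_apply, Module.End.mul_apply, ihj]
      simp [σQ]
  have hu : ∀ (j : ℕ) (v : U), ((ρ g - 1) ^ j) (v : V) = (((σU g - 1) ^ j) v : U) := by
    intro j
    induction j with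
    | zero => simp
    | succ j ihj =>
      intro v
      rw [pow_succ, pow_succ, Module.End.mul_apply, Module.End.mul_apply, ← ihj]
      congr 1
  refine ⟨a + b, LinearMap.ext fun v => ?_⟩
  have hmem : ((ρ g - 1) ^ b) v ∈ U := by
    rw [← Submodule.Quotient.mk_eq_zero, ← Submodule.mkQ_apply, hq, hb, LinearMap.zero_apply]
  rw [pow_add, Module.End.mul_apply]
  exact (hu a ⟨_, hmem⟩).trans (by rw [ha]; rfl)

end Factors

section Faithful

variable {k : Type} [Field k] {p : ℕ} [hp : Fact p.Prime] [CharP k p] {G : Type v} [Group G]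

/-- Without normal `p`-subgroups, a nontrivial element is nontrivial on an irreducible factor of a
faithful matrix representation. -/
theorem exists_irreducible_ne_one (hN : ∀ N : Subgroup G, N.Normal → IsPGroup p N → N = ⊥) {d : ℕ}
    (Y : G →* Matrix (Fin d) (Fin d) k) (hY : Function.Injective Y) {g : G} (hg : g ≠ 1) :
    ∃ (W : Type) (_ : AddCommGroup W) (_ : Module k W) (_ : FiniteDimensional k W)
      (σ : Representation k G W), Module.finrank k W ≤ d ∧
        (∀ U : Submodule k W, (∀ g, ∀ v ∈ U, σ g v ∈ U) → U = ⊥ ∨ U = ⊤) ∧ σ g ≠ 1 := by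
  by_contra hno
  push Not at hno
  let N : Subgroup G :=
    { carrier := {a | ∀ (W : Type) [AddCommGroup W] [Module k W] [FiniteDimensional k W]
        (σ : Representation k G W), Module.finrank k W ≤ d →
          (∀ U : Submodule k W, (∀ g, ∀ v ∈ U, σ g v ∈ U) → U = ⊥ ∨ U = ⊤) → σ a = 1}
      one_mem' := fun W _ _ _ σ _ _ => map_one σ
      mul_mem' := fun {a b} ha hb W _ _ _ σ h1 h2 => by
        rw [map_mul, ha W σ h1 h2, hb W σ h1 h2, one_mul]
      inv_mem' := fun {a} ha W _ _ _ σ h1 h2 => by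
        calc σ a⁻¹ = σ a⁻¹ * σ a := by rw [ha W σ h1 h2, mul_one]
          _ = 1 := by rw [← map_mul, inv_mul_cancel, map_one] }
  have hNn : N.Normal := ⟨fun a ha b W _ _ _ σ h1 h2 => by
    rw [map_mul, map_mul, ha W σ h1 h2, mul_one, ← map_mul, mul_inv_cancel, map_one]⟩
  let ρ : Representation k G (Fin d → k) :=
    (Matrix.toLinAlgEquiv' : Matrix (Fin d) (Fin d) k ≃ₐ[k] _).toMonoidHom.comp Y
  have hρ : Function.Injective ρ :=
    (Matrix.toLinAlgEquiv' : Matrix (Fin d) (Fin d) k ≃ₐ[k] _).injective.comp hY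
  have hNp : IsPGroup p N := fun a => by
    obtain ⟨m, hm⟩ := isNilpotent_sub_one (V := Fin d → k) d (a : G)
      (fun W _ _ _ σ h1 h2 => a.2 W σ h1 h2) ρ (by simp)
    rcases subsingleton_or_nontrivial (Module.End k (Fin d → k)) with hsub | hnt
    · exact ⟨0, Subtype.ext (hρ (Subsingleton.elim _ _))⟩
    haveI : CharP (Module.End k (Fin d → k)) p := charP_of_injective_algebraMap' k p
    refine ⟨m, Subtype.ext (hρ ?_)⟩
    have h0 : (ρ (a : G) - 1) ^ p ^ m = 0 :=
      pow_eq_zero_of_le (Nat.lt_pow_self hp.out.one_lt).le hm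
    rw [sub_pow_char_pow_of_commute p m (Commute.one_right _), one_pow, sub_eq_zero] at h0
    rw [SubmonoidClass.coe_pow, map_pow, h0, OneMemClass.coe_one, map_one]
  refine hg (Subgroup.mem_bot.1 ((hN N hNn hNp) ▸ (show g ∈ N from fun W _ _ _ σ h1 h2 => ?_)))
  exact hno W inferInstance inferInstance inferInstance σ h1 h2

/-- The projective representation of degree two attached to a small irreducible representation. -/
theorem exists_projective [IsAlgClosed k] [Finite G] (hsq : ¬ p ^ 2 ∣ Nat.card G) {x : G}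
    (hx : orderOf x = p) {W : Type w} [AddCommGroup W] [Module k W] [FiniteDimensional k W]
    (σ : Representation k G W)
    (hirr : ∀ U : Submodule k W, (∀ g, ∀ v ∈ U, σ g v ∈ U) → U = ⊥ ∨ U = ⊤) (hne : σ x ≠ 1)
    (hdim : 2 * Module.finrank k W + 1 ≤ p) (hp5 : p = 5 ∨ 7 ≤ p) :
    ∃ φ : G →* PGL(2, ZMod p), φ x ≠ 1 ∧ (∀ g, φ g = 1 → Commute (σ g) (σ x)) ∧
      (φ.range = ⊤ ∨
        φ.range = (Matrix.SpecialLinearGroup.toPGL (n := Fin 2) (R := ZMod p)).range) := by
  classical
  suffices h : ∃ ψ : G →* PGL(2, k), ψ x ≠ 1 ∧ (∀ g, ψ g = 1 → Commute (σ g) (σ x)) ∧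
      ∀ z : OnePoint k, ∃ g, ψ g • z ≠ z by
    obtain ⟨ψ, h1, h2, h3⟩ := h
    obtain ⟨φ, hker, hr⟩ := exists_toPGL_zmod hsq (by omega) hx ψ h1 h3
    refine ⟨φ, fun e => h1 ?_, fun g hg => h2 g ?_, hr⟩
    · rwa [← MonoidHom.mem_ker, ← hker, MonoidHom.mem_ker]
    · rwa [← MonoidHom.mem_ker, ← hker, MonoidHom.mem_ker]
  rcases hp5 with hp5 | hp7
  · -- degree at most two
    haveI : Nontrivial W := by
      by_contra hW
      rw [not_nontrivial_iff_subsingleton] at hW
      exact hne (LinearMap.ext fun v => Subsingleton.elim _ _)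
    haveI : CharP (Module.End k W) p := charP_of_injective_algebraMap' k p
    have hscal : ∀ t : k, σ x = t • (1 : Module.End k W) → False := by
      intro t ht
      have h1 : σ x ^ p = 1 := by rw [← map_pow, ← hx, pow_orderOf_eq_one, map_one]
      rw [ht, smul_pow, one_pow, ← Algebra.algebraMap_eq_smul_one] at h1
      have h2 : t ^ p = 1 := (algebraMap k (Module.End k W)).injective (by rw [h1, map_one])
      have h3 : (t - 1) ^ p = 0 := by rw [sub_pow_char, h2, one_pow, sub_self]
      rw [pow_eq_zero_iff hp.out.ne_zero, sub_eq_zero] at h3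
      rw [h3, one_smul] at ht
      exact hne ht
    have h2 : Module.finrank k W = 2 := by
      have hpos : 0 < Module.finrank k W := Module.finrank_pos
      rcases Nat.lt_or_ge (Module.finrank k W) 2 with h | h
      · exfalso
        let b := Module.finBasisOfFinrankEq k W (show Module.finrank k W = 1 by omega)
        refine hscal (b.repr (σ x (b 0)) 0) (b.ext fun i => ?_)
        rw [Subsingleton.elim i 0, LinearMap.smul_apply, Module.End.one_apply]
        conv_lhs => rw [← b.sum_repr (σ x (b 0))]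
        rw [Fin.sum_univ_one]
      · omega
    let b := Module.finBasisOfFinrankEq k W h2
    let A : Module.End k W ≃ₐ[k] Matrix (Fin 2) (Fin 2) k := LinearMap.toMatrixAlgEquiv b
    let M : G →* GL (Fin 2) k := (A.toMonoidHom.comp σ).toHomUnits
    have hM : ∀ g, (M g).val = A (σ g) := fun g => rfl
    have hcen : ∀ g, Matrix.ProjGenLinGroup.mk (M g) = 1 → ∃ t : k, σ g = t • 1 := by
      intro g hg
      obtain ⟨e01, e10, e11⟩ := CfsgLib.Dickson.mk_eq_one_iff.1 hg
      refine ⟨M g 0 0, A.injective ?_⟩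
      rw [map_smul, map_one, ← hM]
      ext i j
      fin_cases i <;> fin_cases j <;> simp_all
    refine ⟨Matrix.ProjGenLinGroup.mk.comp M, fun e => ?_, fun g hg => ?_, fun z => ?_⟩
    · obtain ⟨t, ht⟩ := hcen x e
      exact hscal t ht
    · obtain ⟨t, ht⟩ := hcen g hg
      rw [ht]
      exact (Commute.one_left _).smul_left t
    · by_contra hz
      push Not at hz
      obtain ⟨h, hh⟩ := CfsgLib.Dickson.exists_smul_infty z
      set v := h.val 0 0 • b 0 + h.val 1 0 • b 1 with hv
      have hv0 : v ≠ 0 := by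
        intro e
        have e0 := congrArg (fun w => b.repr w 0) e
        have e1 := congrArg (fun w => b.repr w 1) e
        simp [hv] at e0 e1
        refine Matrix.GeneralLinearGroup.det_ne_zero h ?_
        rw [Matrix.det_fin_two, e0, e1]
        simp
      have hst : ∀ g, ∀ w ∈ Submodule.span k {v}, σ g w ∈ Submodule.span k {v} := by
        intro g w hw
        obtain ⟨r, rfl⟩ := Submodule.mem_span_singleton.1 hw
        rw [map_smul]
        refine Submodule.smul_mem _ _ (Submodule.mem_span_singleton.2 ?_)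
        set T := h⁻¹ * M g * h with hT
        have hT0 : T.val 1 0 = 0 := by
          rw [← OnePoint.smul_infty_eq_self_iff, hT, mul_smul, mul_smul, hh,
            show M g • z = z from hz g, ← hh, inv_smul_smul]
        have hprod : A (σ g) * h.val = h.val * T.val := by
          rw [← hM, ← Units.val_mul, ← Units.val_mul, hT]
          congr 1
          group
        refine ⟨T.val 0 0, b.repr.injective (Finsupp.ext fun i => ?_)⟩
        have hi := congrFun (congrFun hprod i) 0
        have hA : ∀ i j, A (σ g) i j = b.repr (σ g (b j)) i := fun i j => by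
          rw [show A (σ g) = LinearMap.toMatrixAlgEquiv b (σ g) from rfl,
            LinearMap.toMatrixAlgEquiv_apply]
        rw [Matrix.mul_apply, Matrix.mul_apply, Fin.sum_univ_two, Fin.sum_univ_two, hT0, mul_zero,
          add_zero, hA, hA] at hi
        rw [hv, map_smul, Finsupp.smul_apply, smul_eq_mul, map_add, map_add, map_smul, map_smul,
          map_add, map_smul, map_smul, map_smul, map_smul]
        simp only [Finsupp.add_apply, Finsupp.smul_apply, smul_eq_mul]
        rw [mul_comm (h.val 0 0) (b.repr (σ g (b 0)) i), mul_comm (h.val 1 0) (b.repr (σ g (b 1)) i),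
          hi]
        fin_cases i <;> simp <;> ring
      rcases hirr _ hst with e | e
      · exact hv0 (Submodule.span_singleton_eq_bot.1 e)
      · have := finrank_span_singleton (K := k) hv0
        rw [e, finrank_top, h2] at this
        omega
  · -- the general case
    have hS : Small σ (Subgroup.zpowers x) x p :=
      ⟨by rw [Nat.card_zpowers, hx], hsq, Subgroup.mem_zpowers x, hne, hirr, hdim, hp7⟩
    obtain ⟨ψ, hψx, hψc, hψt⟩ := hS.exists_toPGL
    have hψ1 : ψ x ≠ 1 := by
      rw [hψx, Ne, CfsgLib.Dickson.mk_eq_one_iff]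
      simp [CfsgLib.Dickson.upperT, Matrix.GeneralLinearGroup.mkOfDetNeZero]
    refine ⟨ψ, hψ1, hψc, fun z => ?_⟩
    by_contra hz
    push Not at hz
    have hzi : z = OnePoint.infty := by
      have := hz x
      rw [hψx, CfsgLib.Dickson.mk_smul] at this
      cases z with
      | infty => rfl
      | coe c =>
        rw [CfsgLib.Dickson.upperT_smul_coe, OnePoint.coe_eq_coe] at this
        exact absurd this (by simp)
    refine hψt fun g => ?_
    obtain ⟨M, hM⟩ := Matrix.ProjGenLinGroup.mk_surjective (ψ g)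
    refine ⟨M, hM.symm, ?_⟩
    have := hz g
    rw [← hM, hzi, CfsgLib.Dickson.mk_smul] at this
    exact OnePoint.smul_infty_eq_self_iff.1 this

end Faithful

end CfsgLib.SmallPRep
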