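import Cfsg.Agent.SmallPRep.Triple
import Cfsg.Agent.SmallPRep.Adjoint
import Cfsg.Agent.Dickson.Realize

/-!
# A small irreducible representation gives a homomorphism to the projective group of degree two

The span of the triple of `Small.exists_triple`, after one correction by averaging, is invariant
under conjugation by the whole group and carries the trace form and an alternating form.
-/

set_option autoImplicit false

namespace CfsgLib.SmallPRep

open Finset
open scoped MatrixGroups

universe u v w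

variable {k : Type u} [Field k] {p : ℕ} [hp : Fact p.Prime] [CharP k p]
  {G : Type v} [Group G] [Finite G] {V : Type w} [AddCommGroup V] [Module k V] [FiniteDimensional k V]

/-- Conjugation on endomorphisms. -/
def adRep (ρ : Representation k G V) : G →* Module.End k (Module.End k V) where
  toFun g := LinearMap.mulLeft k (ρ g) * LinearMap.mulRight k (ρ g⁻¹)
  map_one' := by ext Y v; simp
  map_mul' g g' := by
    ext Y v
    simp only [_root_.mul_inv_rev, map_mul, Module.End.mul_apply, LinearMap.mulLeft_apply,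
      LinearMap.mulRight_apply]

omit [CharP k p] hp [Finite G] [FiniteDimensional k V] in
theorem adRep_apply (ρ : Representation k G V) (g : G) (Y : Module.End k V) :
    adRep ρ g Y = ρ g * Y * ρ g⁻¹ := by
  show ρ g * (Y * ρ g⁻¹) = _
  rw [mul_assoc]

omit [CharP k p] hp in
theorem adRep_mul (ρ : Representation k G V) (g : G) (Y Z : Module.End k V) :
    adRep ρ g (Y * Z) = adRep ρ g Y * adRep ρ g Z := by
  simp only [adRep_apply]
  rw [show ρ g * Y * ρ g⁻¹ * (ρ g * Z * ρ g⁻¹) = ρ g * Y * (ρ g⁻¹ * ρ g) * Z * ρ g⁻¹ by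
    simp only [mul_assoc], rho_inv_mul, mul_one]
  simp only [mul_assoc]

omit [CharP k p] hp in
theorem trace_adRep (ρ : Representation k G V) (g : G) (Y : Module.End k V) :
    LinearMap.trace k V (adRep ρ g Y) = LinearMap.trace k V Y := by
  rw [adRep_apply, LinearMap.trace_mul_comm, ← mul_assoc, rho_inv_mul, one_mul]

omit [CharP k p] hp in
theorem trace_pair (ρ : Representation k G V) (g : G) (Y Z : Module.End k V) :
    LinearMap.trace k V (adRep ρ g Y * Z) = LinearMap.trace k V (Y * adRep ρ g⁻¹ Z) := by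
  rw [← trace_adRep ρ g⁻¹, adRep_mul]
  congr 2
  rw [← Module.End.mul_apply, ← map_mul, inv_mul_cancel, map_one, Module.End.one_apply]

omit [CharP k p] hp in
/-- Trace pairing of high images of `Ad x - 1`. -/
theorem trace_adRep_sub_one (ρ : Representation k G V) (x : G) :
    ∀ (m : ℕ) (Y Z : Module.End k V), ((adRep ρ x - 1) ^ m) Z = 0 →
      LinearMap.trace k V (((adRep ρ x - 1) ^ m) Y * Z) = 0 := by
  intro m
  induction m with
  | zero => intro Y Z hZ; rw [pow_zero, Module.End.one_apply] at hZ; simp [hZ]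
  | succ m ih =>
    intro Y Z hZ
    set B := adRep ρ x - 1 with hB
    set Ai := adRep ρ x⁻¹ with hAi
    have hAiA : Ai * adRep ρ x = 1 := by rw [hAi, ← map_mul, inv_mul_cancel, map_one]
    have hAAi : adRep ρ x * Ai = 1 := by rw [hAi, ← map_mul, mul_inv_cancel, map_one]
    have hc : Commute Ai B := by
      rw [hB]
      exact (show Commute Ai (adRep ρ x) from hAiA.trans hAAi.symm).sub_right (Commute.one_right _)
    rw [pow_succ', Module.End.mul_apply]
    set W := (B ^ m) Y with hW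
    have h1 : LinearMap.trace k V (B W * Z) = LinearMap.trace k V (W * (-(Ai (B Z)))) := by
      rw [hB, LinearMap.sub_apply, Module.End.one_apply, sub_mul, map_sub, trace_pair,
        ← map_sub, ← mul_sub]
      congr 2
      rw [LinearMap.sub_apply, Module.End.one_apply, map_sub, ← Module.End.mul_apply, hAiA,
        Module.End.one_apply, neg_sub]
    rw [h1, hW]
    refine ih Y _ ?_
    rw [map_neg, ← Module.End.mul_apply, ← (hc.pow_right m).eq, Module.End.mul_apply,
      ← Module.End.mul_apply (B ^ m) B, ← pow_succ, hZ, map_zero, neg_zero]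

/-- The coordinates in the span of three endomorphisms. -/
def comb (D H F : Module.End k V) (a b c : k) : Module.End k V := a • D + b • H + c • F

namespace Small

variable {ρ : Representation k G V} {P : Subgroup G} {x : G} (h : Small ρ P x p)
include h hp

/-- The invariant triple. -/
theorem exists_invariant_triple : ∃ D H F : Module.End k V,
    LinearMap.trace k V (D * F) ≠ 0 ∧
    LinearMap.trace k V (D * D) = 0 ∧ LinearMap.trace k V (D * H) = 0 ∧
    LinearMap.trace k V (H * F) = 0 ∧ LinearMap.trace k V (F * F) = 0 ∧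
    LinearMap.trace k V (H * H) = 2 * LinearMap.trace k V (D * F) ∧
    H * D - D * H = 2 • D ∧ trExp k p D = ρ x ∧
    adRep ρ x D = D ∧ adRep ρ x H = H - 2 • D ∧ adRep ρ x F = F + H - D ∧ IsNilpotent D ∧
    ∀ g, (∃ a1 a2 a3, adRep ρ g D = comb D H F a1 a2 a3) ∧
      (∃ a1 a2 a3, adRep ρ g H = comb D H F a1 a2 a3) ∧
      ∃ a1 a2 a3, adRep ρ g F = comb D H F a1 a2 a3 := by
  classical
  obtain ⟨L, D, H, F, hL2, hLp, hAL, hDX, hDL, hHD, hHF, hDF, hc0, K, hKN, hNK, hK⟩ :=
    h.exists_triple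
  haveI : Fact (1 < p) := ⟨hp.out.one_lt⟩
  have hseven := h.seven
  have h2 : (2 : k) ≠ 0 := by
    intro e
    have : ((2 : ℕ) : k) = 0 := by exact_mod_cast e
    rw [CharP.cast_eq_zero_iff k p] at this
    have := Nat.le_of_dvd two_pos this
    omega
  set tr := LinearMap.trace k V with htr
  set c := tr (D * F) with hc
  have hzero : ∀ t : k, (2 : k) * t = 0 → t = 0 := fun t ht => (mul_eq_zero.1 ht).resolve_left h2
  have cyc : ∀ Y Z : Module.End k V, tr (Y * Z) = tr (Z * Y) := fun Y Z =>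
    LinearMap.trace_mul_comm k Y Z
  have cyc3 : ∀ Y Z U : Module.End k V, tr (Y * Z * U) = tr (U * Y * Z) := fun Y Z U => by
    rw [cyc, mul_assoc]
  -- the trace form on the triple
  have tDD : tr (D * D) = 0 := hzero _ <| by
    have : tr (D * (H * D - D * H)) = tr (D * (2 • D)) := by rw [hHD]
    rw [mul_sub, map_sub, ← mul_assoc, ← mul_assoc, cyc3 D H D, sub_self] at this
    rw [this, two_nsmul, mul_add, map_add, two_mul]
  have tDH : tr (D * H) = 0 := hzero _ <| by
    have : tr ((H * D - D * H) * H) = tr ((2 • D) * H) := by rw [hHD]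
    rw [sub_mul, map_sub, cyc3 D H H, cyc (H * D) H, ← mul_assoc, sub_self] at this
    rw [this, two_nsmul, add_mul, map_add, two_mul]
  have tHF : tr (H * F) = 0 := hzero _ <| by
    have : tr (H * (H * F - F * H)) = tr (H * -(2 • F)) := by rw [hHF]
    rw [mul_sub, map_sub, ← mul_assoc, ← mul_assoc, cyc3 H F H, sub_self] at this
    rw [two_nsmul, mul_neg, map_neg, mul_add, map_add, ← two_mul, eq_comm, neg_eq_zero] at this
    exact this
  have tFF : tr (F * F) = 0 := hzero _ <| by
    have : tr (F * (H * F - F * H)) = tr (F * -(2 • F)) := by rw [hHF]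
    rw [mul_sub, map_sub, ← mul_assoc, ← mul_assoc, cyc3 F H F, sub_self] at this
    rw [two_nsmul, mul_neg, map_neg, mul_add, map_add, ← two_mul, eq_comm, neg_eq_zero] at this
    exact this
  have tHH : tr (H * H) = 2 * c := by
    have : tr (H * (D * F - F * D)) = tr (H * H) := by rw [hDF]
    rw [← this, mul_sub, map_sub, ← mul_assoc, ← mul_assoc, cyc3 H F D, ← map_sub, ← sub_mul,
      hHD, two_nsmul, add_mul, map_add, two_mul, hc]
  -- the action of `x`
  let LD : Module.End k (Module.End k V) := LinearMap.mulLeft k D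
  let RD : Module.End k (Module.End k V) := LinearMap.mulRight k D
  have hLDL : LD ^ L = 0 := by
    refine LinearMap.ext fun Y => ?_
    rw [LinearMap.pow_mulLeft, hDL, LinearMap.mulLeft_apply, zero_mul, LinearMap.zero_apply]
  have hRDL : RD ^ L = 0 := by
    refine LinearMap.ext fun Y => ?_
    rw [LinearMap.pow_mulRight, hDL, LinearMap.mulRight_apply, mul_zero, LinearMap.zero_apply]
  have hnRDL : (-RD) ^ L = 0 := by
    rw [show -RD = (-1 : k) • RD by module, smul_pow, hRDL, smul_zero]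
  have hLp' : 2 * L ≤ p + 1 := by omega
  have hexpL : trExp k p LD = LinearMap.mulLeft k (ρ x) := by
    rw [← hDX]
    exact (map_trExp (k := k) (p := p) (Algebra.lmul k (Module.End k V)) D).symm
  have hexpR : trExp k p RD = LinearMap.mulRight k (ρ x) := by
    refine LinearMap.ext fun Y => ?_
    rw [← hDX, trExp, trExp, LinearMap.sum_apply, LinearMap.mulRight_apply, Finset.mul_sum]
    refine Finset.sum_congr rfl fun j _ => ?_
    rw [LinearMap.smul_apply, LinearMap.pow_mulRight, LinearMap.mulRight_apply, mul_smul_comm]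
  have hexpR' : trExp k p (-RD) = LinearMap.mulRight k (ρ x⁻¹) := by
    refine left_inv_eq_right_inv (a := trExp k p RD) ?_ ?_
    · rw [← trExp_add (Commute.refl RD).neg_left hnRDL hRDL hLp', neg_add_cancel, trExp_zero]
    · rw [hexpR]
      refine LinearMap.ext fun Y => ?_
      simp only [Module.End.mul_apply, LinearMap.mulRight_apply, Module.End.one_apply]
      rw [mul_assoc, rho_inv_mul, mul_one]
  have hcomm : Commute LD (-RD) := (LinearMap.commute_mulLeft_right (R := k) D D).neg_right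
  set u := LD + -RD with hu
  have hAdx : adRep ρ x = trExp k p u := by
    rw [hu, trExp_add hcomm hLDL hnRDL hLp', hexpL, hexpR']
    rfl
  set b := 2 * L - 1 with hb
  have hub : u ^ b = 0 := hcomm.add_pow_eq_zero_of_add_le_succ_of_pow_eq_zero hLDL hnRDL (by omega)
  set B := adRep ρ x - 1 with hB
  have hBb : B ^ b = 0 := by
    obtain ⟨w, -, huw, he⟩ := exists_trExp_eq_add (k := k) (p := p) (u := u) ⟨b, hub⟩ hp.out.two_le
    rw [hB, hAdx, he, add_sub_cancel_left, huw.mul_pow, hub, zero_mul]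
  have hu1 : ∀ Y, u Y = D * Y - Y * D := fun Y => by
    simp [hu, LD, RD, sub_eq_add_neg]
  have huD : u D = 0 := by rw [hu1, sub_self]
  have huH : u H = -(2 • D) := by rw [hu1, ← hHD, neg_sub]
  have huF : u F = H := by rw [hu1, hDF]
  have hpowu : ∀ (Y : Module.End k V) (m j : ℕ), (u ^ m) Y = 0 → m ≤ j → (u ^ j) Y = 0 := by
    intro Y m j hY hmj
    obtain ⟨r, rfl⟩ := Nat.exists_eq_add_of_le hmj
    rw [add_comm, pow_add, Module.End.mul_apply, hY, map_zero]
  have heval : ∀ Y : Module.End k V, (u ^ 3) Y = 0 →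
      adRep ρ x Y = Y + u Y + (2 : k)⁻¹ • u (u Y) := by
    intro Y hY
    rw [hAdx, trExp, LinearMap.sum_apply,
      ← Finset.sum_subset (s₁ := range 3) (Finset.range_subset_range.2 (by omega)) fun j _ hj => by
        rw [Finset.mem_range, not_lt] at hj
        rw [LinearMap.smul_apply, hpowu Y 3 j hY hj, smul_zero]]
    simp only [Finset.sum_range_succ, Finset.sum_range_zero, LinearMap.smul_apply, pow_zero,
      pow_one, pow_two, Module.End.mul_apply, Module.End.one_apply, Nat.factorial_zero,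
      Nat.factorial_one, Nat.factorial_two, Nat.cast_one, inv_one, one_smul, zero_add,
      Nat.cast_ofNat]
  have hxD : adRep ρ x D = D := by
    rw [heval D (by rw [pow_succ, Module.End.mul_apply, huD, map_zero]), huD, map_zero, smul_zero,
      add_zero, add_zero]
  have hxH : adRep ρ x H = H - 2 • D := by
    have h3 : (u ^ 3) H = 0 := by
      refine hpowu H 2 3 ?_ (by omega)
      rw [pow_two, Module.End.mul_apply, huH, map_neg, map_nsmul, huD, smul_zero, neg_zero]
    rw [heval H h3, huH, map_neg, map_nsmul, huD, smul_zero, neg_zero, smul_zero, add_zero,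
      sub_eq_add_neg]
  have hxF : adRep ρ x F = F + H - D := by
    have h3 : (u ^ 3) F = 0 := by
      rw [pow_succ, pow_two, Module.End.mul_apply, Module.End.mul_apply, huF, huH, map_neg, map_nsmul,
        huD, smul_zero, neg_zero]
    rw [heval F h3, huF, huH, ← Nat.cast_smul_eq_nsmul k 2 D, smul_neg, smul_smul, Nat.cast_ofNat,
      inv_mul_cancel₀ h2, one_smul, sub_eq_add_neg]
  have hBD : B D = 0 := by rw [hB, LinearMap.sub_apply, hxD, Module.End.one_apply, sub_self]
  have hBH : B H = -(2 • D) := by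
    rw [hB, LinearMap.sub_apply, hxH, Module.End.one_apply]; abel
  have hBF : B F = H - D := by
    rw [hB, LinearMap.sub_apply, hxF, Module.End.one_apply]; abel
  have hB2H : (B ^ 2) H = 0 := by
    rw [pow_two, Module.End.mul_apply, hBH, map_neg, map_nsmul, hBD, smul_zero, neg_zero]
  have hB3F : (B ^ 3) F = 0 := by
    rw [pow_succ, Module.End.mul_apply, hBF, map_sub, hB2H, pow_two, Module.End.mul_apply, hBD,
      map_zero, sub_zero]
  -- the projection onto the triple
  let π : Module.End k (Module.End k V) := c⁻¹ •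
    ((tr ∘ₗ LinearMap.mulRight k F).smulRight D +
      (2 : k)⁻¹ • (tr ∘ₗ LinearMap.mulRight k H).smulRight H +
      (tr ∘ₗ LinearMap.mulRight k D).smulRight F)
  have hπ : ∀ Y, π Y = c⁻¹ • (tr (Y * F) • D + (2 : k)⁻¹ • tr (Y * H) • H + tr (Y * D) • F) :=
    fun Y => rfl
  have hπD : π D = D := by
    rw [hπ, tDD, tDH, ← hc]
    simp [smul_smul, inv_mul_cancel₀ hc0]
  have hπH : π H = H := by
    rw [hπ, tHF, tHH, cyc H D, tDH]
    simp [smul_smul, ← mul_assoc, inv_mul_cancel₀ h2, inv_mul_cancel₀ hc0]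
  have hπF : π F = F := by
    rw [hπ, tFF, cyc F H, tHF, cyc F D, ← hc]
    simp [smul_smul, inv_mul_cancel₀ hc0]
  have htp : ∀ (g : G) (U U' Y : Module.End k V), adRep ρ g U' = U →
      tr (adRep ρ g Y * U) = tr (Y * U') := by
    intro g U U' Y e
    rw [← e, trace_pair, ← Module.End.mul_apply, ← map_mul, inv_mul_cancel, map_one,
      Module.End.one_apply]
  have hπx : ∀ Y, π (adRep ρ x Y) = adRep ρ x (π Y) := by
    intro Y
    have e1 : tr (adRep ρ x Y * F) = tr (Y * F) - tr (Y * H) - tr (Y * D) := by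
      rw [htp x F (F - H - D) Y (by rw [map_sub, map_sub, hxF, hxH, hxD]; abel), mul_sub, mul_sub,
        map_sub, map_sub]
    have e2 : tr (adRep ρ x Y * H) = tr (Y * H) + 2 * tr (Y * D) := by
      rw [htp x H (H + 2 • D) Y (by rw [map_add, map_nsmul, hxH, hxD]; abel), mul_add, map_add,
        two_nsmul, mul_add, map_add, two_mul]
    have e3 : tr (adRep ρ x Y * D) = tr (Y * D) := htp x D D Y hxD
    simp only [hπ, e1, e2, e3, map_smul, map_add, hxD, hxH, hxF, ← Nat.cast_smul_eq_nsmul k 2 D,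
      Nat.cast_ofNat]
    match_scalars <;> field_simp <;> ring
  have hπK : ∀ d ∈ K, ∀ Y, π (adRep ρ d Y) = adRep ρ d (π Y) := by
    intro d hd Y
    obtain ⟨a, ha0, hdD, hdH, hdF⟩ := hK d hd
    rw [← adRep_apply] at hdD hdH hdF
    have e1 : tr (adRep ρ d Y * F) = a * tr (Y * F) := by
      rw [htp d F (a • F) Y (by rw [map_smul, hdF, smul_smul, mul_inv_cancel₀ ha0, one_smul]),
        mul_smul_comm, map_smul, smul_eq_mul]
    have e2 : tr (adRep ρ d Y * H) = tr (Y * H) := htp d H H Y hdH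
    have e3 : tr (adRep ρ d Y * D) = a⁻¹ * tr (Y * D) := by
      rw [htp d D (a⁻¹ • D) Y (by rw [map_smul, hdD, smul_smul, inv_mul_cancel₀ ha0, one_smul]),
        mul_smul_comm, map_smul, smul_eq_mul]
    simp only [hπ, e1, e2, e3, map_smul, map_add, hdD, hdH, hdF]
    match_scalars <;> ring
  have hπN : ∀ g ∈ Subgroup.normalizer (P : Set G), adRep ρ g * π = π * adRep ρ g := by
    intro g hg
    obtain ⟨i, d, hd, rfl⟩ := hNK g hg
    have h1 : Commute (adRep ρ x) π := LinearMap.ext fun Y => (hπx Y).symm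
    have h2 : Commute (adRep ρ d) π := LinearMap.ext fun Y => (hπK d hd Y).symm
    rw [map_mul, map_pow]
    exact ((h1.pow_left i).mul_left h2).eq
  -- the averaged map
  obtain ⟨f, φ, hfG, hf⟩ := exists_equivariant (adRep ρ) h.card h.sq h.mem h.ne_one π hπN
  obtain ⟨ψ, r, hψ⟩ := exists_expansion k (p := p) (adRep ρ x) (adRep ρ x⁻¹) φ
    (by rw [← map_mul, mul_inv_cancel, map_one]) (by rw [← map_mul, inv_mul_cancel, map_one])
  set S := ∑ a ∈ range p, r a • (B ^ a * ψ * B ^ (p - 1 - a)) with hS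
  have hfS : ∀ Y, f Y = π Y + S Y := fun Y => by rw [hf, hψ, LinearMap.add_apply]
  have hBge : ∀ j, b ≤ j → B ^ j = 0 := fun j hj => pow_eq_zero_of_le hj hBb
  have hterm : ∀ Y, S Y = ∑ a ∈ range p, r a • (B ^ a) (ψ ((B ^ (p - 1 - a)) Y)) := fun Y => by
    simp only [hS, LinearMap.sum_apply, LinearMap.smul_apply, Module.End.mul_apply]
  -- `S` of anything killed by a low power lies deep
  have hdeep : ∀ (Y : Module.End k V) (m : ℕ), (B ^ m) Y = 0 →
      ∃ z, S Y = (B ^ (p - m)) z := by
    intro Y m hm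
    refine ⟨∑ a ∈ range p, r a • (if p - m ≤ a then
      (B ^ (a - (p - m))) (ψ ((B ^ (p - 1 - a)) Y)) else 0), ?_⟩
    rw [map_sum, hterm]
    refine Finset.sum_congr rfl fun a ha => ?_
    rw [Finset.mem_range] at ha
    rw [map_zsmul]
    by_cases hle : p - m ≤ a
    · rw [if_pos hle, ← Module.End.mul_apply (B ^ (_ : ℕ)) (B ^ (a - _)), ← pow_add, Nat.add_sub_cancel' hle]
    · rw [if_neg hle, map_zero]
      rcases Nat.exists_eq_add_of_le (show m ≤ p - 1 - a by omega) with ⟨t, ht⟩
      rw [ht, add_comm, pow_add, Module.End.mul_apply, hm, map_zero, map_zero, map_zero]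
  have hkill : ∀ Y : Module.End k V, (B ^ 2) Y = 0 → S Y = 0 := by
    intro Y hY
    obtain ⟨z, hz⟩ := hdeep Y 2 hY
    rw [hz, hBge _ (by omega), LinearMap.zero_apply]
  have hraise : ∀ (j : ℕ) (Y : Module.End k V), ∃ z, S ((B ^ j) Y) = (B ^ (j + 2)) z := by
    intro j Y
    refine ⟨∑ a ∈ range p, r a • (if j + 2 ≤ a then
      (B ^ (a - (j + 2))) (ψ ((B ^ (p - 1 - a)) ((B ^ j) Y))) else 0), ?_⟩
    rw [map_sum, hterm]
    refine Finset.sum_congr rfl fun a ha => ?_
    rw [Finset.mem_range] at ha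
    rw [map_zsmul]
    by_cases hle : j + 2 ≤ a
    · rw [if_pos hle, ← Module.End.mul_apply (B ^ (_ : ℕ)) (B ^ (a - _)), ← pow_add, Nat.add_sub_cancel' hle]
    · rw [if_neg hle, map_zero, ← Module.End.mul_apply (B ^ (p - 1 - a)), ← pow_add,
        hBge (p - 1 - a + j) (by omega), LinearMap.zero_apply, map_zero, map_zero]
  have hSD : S D = 0 := hkill D (by rw [pow_two, Module.End.mul_apply, hBD, map_zero])
  have hSH : S H = 0 := hkill H hB2H
  obtain ⟨z, hz⟩ := hdeep F 3 hB3F
  set F' := F + S F with hF'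
  have hperp : ∀ Z : Module.End k V, (B ^ (p - 3)) Z = 0 → tr (S F * Z) = 0 := fun Z hZ => by
    rw [hz]; exact trace_adRep_sub_one ρ x _ z Z hZ
  have hB3 : ∀ Z : Module.End k V, (B ^ 3) Z = 0 → (B ^ (p - 3)) Z = 0 := fun Z hZ => by
    rw [show p - 3 = p - 6 + 3 by omega, pow_add, Module.End.mul_apply, hZ, map_zero]
  have hB3D : (B ^ 3) D = 0 := by rw [pow_succ, Module.End.mul_apply, hBD, map_zero]
  have hB3H : (B ^ 3) H = 0 := by rw [pow_succ', Module.End.mul_apply, hB2H, map_zero]
  have sD : tr (S F * D) = 0 := hperp D (hB3 D hB3D)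
  have sH : tr (S F * H) = 0 := hperp H (hB3 H hB3H)
  have sF : tr (S F * F) = 0 := hperp F (hB3 F hB3F)
  have sS : tr (S F * S F) = 0 := hperp _ <| by
    rw [hz, ← Module.End.mul_apply, ← pow_add, hBge _ (by omega), LinearMap.zero_apply]
  have hfD : f D = D := by rw [hfS, hπD, hSD, add_zero]
  have hfH : f H = H := by rw [hfS, hπH, hSH, add_zero]
  have hfF : f F = F' := by rw [hfS, hπF]
  have hπS : π (S F) = 0 := by rw [hπ, sD, sH, sF]; simp
  have hSS : S (S F) = 0 := by
    obtain ⟨z', hz'⟩ := hraise (p - 3) z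
    rw [hz, hz', hBge _ (by omega), LinearMap.zero_apply]
  have hfF' : f F' = F' := by
    rw [hF', map_add, hfF, hfS (S F), hπS, hSS, add_zero, add_zero]
  have hfix : ∀ R, f R = R → ∃ a1 a2 a3, R = comb D H F' a1 a2 a3 := by
    intro R hR
    refine ⟨c⁻¹ * tr (R * F), c⁻¹ * ((2 : k)⁻¹ * tr (R * H)), c⁻¹ * tr (R * D), ?_⟩
    set R' := R - comb D H F' (c⁻¹ * tr (R * F)) (c⁻¹ * ((2 : k)⁻¹ * tr (R * H)))
      (c⁻¹ * tr (R * D)) with hR'
    have hπR : π R' = 0 := by
      rw [hR', comb, map_sub, map_add, map_add, map_smul, map_smul, map_smul, hπD, hπH, hF',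
        map_add, hπF, hπS, add_zero, hπ]
      module
    have hfR : S R' = R' := by
      have : f R' = R' := by
        rw [hR', comb, map_sub, map_add, map_add, map_smul, map_smul, map_smul, hfD, hfH, hfF', hR]
      rwa [hfS, hπR, zero_add] at this
    have hin : ∀ j, ∃ w, R' = (B ^ j) w := by
      intro j
      induction j with
      | zero => exact ⟨R', by rw [pow_zero]; rfl⟩
      | succ j ih =>
        obtain ⟨w, hw⟩ := ih
        obtain ⟨w', hw'⟩ := hraise j w
        rw [← hw, hfR] at hw'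
        exact ⟨B w', by rw [← Module.End.mul_apply, ← pow_succ]; exact hw'⟩
    obtain ⟨w, hw⟩ := hin b
    rw [hBb, LinearMap.zero_apply] at hw
    exact sub_eq_zero.1 hw
  have hinv : ∀ g Y, f Y = Y → ∃ a1 a2 a3, adRep ρ g Y = comb D H F' a1 a2 a3 := by
    intro g Y hY
    refine hfix _ ?_
    rw [← Module.End.mul_apply, ← hfG, Module.End.mul_apply, hY]
  have hxF' : adRep ρ x F' = F' + H - D := by
    rw [← hfF, ← Module.End.mul_apply, hfG, Module.End.mul_apply, hxF, map_sub, map_add, hfD, hfH]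
  refine ⟨D, H, F', ?_, tDD, tDH, ?_, ?_, ?_, hHD, hDX, hxD, hxH, hxF', ⟨L, hDL⟩,
    fun g => ⟨hinv g D hfD, hinv g H hfH, hinv g F' hfF'⟩⟩
  · rwa [hF', mul_add, map_add, cyc D (S F), sD, add_zero]
  · rw [hF', mul_add, map_add, cyc H (S F), sH, tHF, add_zero]
  · rw [hF', mul_add, add_mul, add_mul, map_add, map_add, map_add, cyc F (S F), sF, sS, tFF]
    simp
  · rw [tHH, hF', mul_add, map_add, cyc D (S F), sD, add_zero]

variable [IsAlgClosed k]

/-- The homomorphism to the projective group of degree two. -/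
theorem exists_toPGL : ∃ ψ : G →* PGL(2, k),
    ψ x = Matrix.ProjGenLinGroup.mk (CfsgLib.Dickson.upperT 1) ∧
    (∀ g, ψ g = 1 → Commute (ρ g) (ρ x)) ∧
    ¬ ∀ g, ∃ M : GL (Fin 2) k, ψ g = Matrix.ProjGenLinGroup.mk M ∧ M.val 1 0 = 0 := by
  classical
  obtain ⟨D, H, F, hc0, tDD, tDH, tHF, tFF, tHH, hHD, hDX, hxD, hxH, hxF, hDnil, hinv⟩ :=
    h.exists_invariant_triple
  have hseven := h.seven
  have h2 : (2 : k) ≠ 0 := by
    intro e
    have : ((2 : ℕ) : k) = 0 := by exact_mod_cast e
    rw [CharP.cast_eq_zero_iff k p] at this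
    have := Nat.le_of_dvd two_pos this
    omega
  set tr := LinearMap.trace k V with htr
  set c := tr (D * F) with hc
  have cyc : ∀ Y Z : Module.End k V, tr (Y * Z) = tr (Z * Y) := fun Y Z =>
    LinearMap.trace_mul_comm k Y Z
  have cyc3 : ∀ Y Z U : Module.End k V, tr (Y * Z * U) = tr (U * Y * Z) := fun Y Z U => by
    rw [cyc, mul_assoc]
  have hpair : ∀ a1 a2 a3 b1 b2 b3 : k, tr (comb D H F a1 a2 a3 * comb D H F b1 b2 b3) =
      c * (a1 * b3 + a3 * b1 + 2 * a2 * b2) := by
    intro a1 a2 a3 b1 b2 b3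
    simp only [comb, add_mul, mul_add, smul_mul_assoc, mul_smul_comm, map_add, map_smul,
      smul_eq_mul, tDD, tFF, tHH, tDH, tHF, cyc H D, cyc F H, cyc F D, ← hc, mul_zero, add_zero,
      zero_add]
    ring
  have hinj : ∀ a1 a2 a3, comb D H F a1 a2 a3 = 0 → a1 = 0 ∧ a2 = 0 ∧ a3 = 0 := by
    intro a1 a2 a3 e
    have p1 := hpair a1 a2 a3 0 0 1
    have p2 := hpair a1 a2 a3 0 1 0
    have p3 := hpair a1 a2 a3 1 0 0
    rw [e, zero_mul, map_zero] at p1 p2 p3
    simp only [mul_zero, mul_one, add_zero, zero_add] at p1 p2 p3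
    refine ⟨?_, ?_, ?_⟩
    · simpa [hc0] using p1.symm
    · simpa [hc0, h2] using p2.symm
    · simpa [hc0] using p3.symm
  have hinj' : ∀ a1 a2 a3 b1 b2 b3, comb D H F a1 a2 a3 = comb D H F b1 b2 b3 →
      a1 = b1 ∧ a2 = b2 ∧ a3 = b3 := by
    intro a1 a2 a3 b1 b2 b3 e
    have := hinj (a1 - b1) (a2 - b2) (a3 - b3) (by
      rw [← sub_self (comb D H F b1 b2 b3)]
      nth_rewrite 1 [← e]
      simp only [comb]
      module)
    exact ⟨sub_eq_zero.1 this.1, sub_eq_zero.1 this.2.1, sub_eq_zero.1 this.2.2⟩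
  -- the relation defining the map
  let Rel : G → GL (Fin 2) k → Prop := fun g M => ∀ a1 a2 a3 b1 b2 b3,
    adRep ρ g (comb D H F a1 a2 a3) = comb D H F b1 b2 b3 →
      M.val * tz a1 a2 a3 = tz b1 b2 b3 * M.val
  have hex : ∀ g, ∃ M, Rel g M := by
    intro g
    obtain ⟨⟨a1, a2, a3, hA⟩, ⟨b1, b2, b3, hBg⟩, ⟨d1, d2, d3, hDg⟩⟩ := hinv g
    have pres : ∀ Y Z, tr (adRep ρ g Y * adRep ρ g Z) = tr (Y * Z) := fun Y Z => by
      rw [← adRep_mul]; exact trace_adRep ρ g _
    have qa := pres D D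
    have qd := pres F F
    have qad := pres D F
    have qab := pres D H
    have qdb := pres F H
    rw [hA, hpair, tDD] at qa
    rw [hDg, hpair, tFF] at qd
    rw [hA, hDg, hpair, ← hc] at qad
    rw [hA, hBg, hpair, tDH] at qab
    rw [hDg, hBg, hpair, cyc F H, tHF] at qdb
    have T : tr ((adRep ρ g D * adRep ρ g H - adRep ρ g H * adRep ρ g D) * adRep ρ g F) =
        tr ((D * H - H * D) * F) := by
      rw [← adRep_mul, ← adRep_mul, ← map_sub, ← adRep_mul]
      exact trace_adRep ρ g _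
    have hval : tr ((D * H - H * D) * F) = -(2 * c) := by
      rw [← neg_sub, hHD, neg_mul, two_nsmul, add_mul, map_neg, map_add, hc, two_mul]
    have z1 : tr (D * H * D) = tr (H * D * D) := (cyc3 H D D).symm
    have z2 : tr (D * H * H) = tr (H * D * H) := cyc3 D H H
    have z3 : tr (D * F * D) = tr (F * D * D) := (cyc3 F D D).symm
    have z4 : tr (D * F * F) = tr (F * D * F) := cyc3 D F F
    have z5 : tr (H * F * H) = tr (F * H * H) := (cyc3 F H H).symm
    have z6 : tr (H * F * F) = tr (F * H * F) := cyc3 H F F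
    have z7 : tr (D * F * H) = tr (H * D * F) := cyc3 D F H
    have z8 : tr (F * D * H) = tr (D * H * F) := (cyc3 D H F).symm
    have z9 : tr (H * F * D) = tr (D * H * F) := cyc3 H F D
    have z10 : tr (F * H * D) = tr (H * D * F) := (cyc3 H D F).symm
    have hdet : a1 * (b2 * d3 - b3 * d2) - a2 * (b1 * d3 - b3 * d1) +
        a3 * (b1 * d2 - b2 * d1) = 1 := by
      rw [hA, hBg, hDg, hval] at T
      have hv2 : tr (H * D * F) - tr (D * H * F) = 2 * c := by
        rw [← map_sub, ← sub_mul, hHD, two_nsmul, add_mul, map_add, hc, two_mul]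
      simp only [comb, add_mul, mul_add, sub_mul, smul_mul_assoc, mul_smul_comm, smul_add,
        smul_smul, map_add, map_sub, map_smul, smul_eq_mul, z1, z2, z3, z4, z5, z6, z7, z8, z9,
        z10] at T
      have h2c : (2 * c) ≠ 0 := mul_ne_zero h2 hc0
      refine mul_left_cancel₀ h2c ?_
      linear_combination -T - (a1 * (b2 * d3 - b3 * d2) - a2 * (b1 * d3 - b3 * d1) +
        a3 * (b1 * d2 - b2 * d1)) * hv2
    obtain ⟨M, hM1, hM2, hM3⟩ := exists_conj (a1 := a1) (a2 := a2) (a3 := a3) (b1 := b1) (b2 := b2)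
      (b3 := b3) (d1 := d1) (d2 := d2) (d3 := d3)
      (mul_left_cancel₀ (mul_ne_zero h2 hc0) (by linear_combination qa))
      (mul_left_cancel₀ (mul_ne_zero h2 hc0) (by linear_combination qd))
      (mul_left_cancel₀ hc0 (by linear_combination qad))
      (mul_left_cancel₀ hc0 (by linear_combination qab))
      (mul_left_cancel₀ hc0 (by linear_combination qdb)) hdet
    refine ⟨M, fun x1 x2 x3 y1 y2 y3 e => ?_⟩
    have e' : adRep ρ g (comb D H F x1 x2 x3) = comb D H F (x1 * a1 + x2 * b1 + x3 * d1)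
        (x1 * a2 + x2 * b2 + x3 * d2) (x1 * a3 + x2 * b3 + x3 * d3) := by
      rw [comb, map_add, map_add, map_smul, map_smul, map_smul, hA, hBg, hDg]
      simp only [comb]
      module
    obtain ⟨r1, r2, r3⟩ := hinj' _ _ _ _ _ _ (e.symm.trans e')
    rw [← tz_combination x1 x2 x3, mul_add, mul_add, mul_smul_comm, mul_smul_comm, mul_smul_comm,
      hM1, hM2, hM3, ← smul_mul_assoc, ← smul_mul_assoc, ← smul_mul_assoc, ← add_mul, ← add_mul]
    congr 1
    rw [r1, r2, r3]
    ext i j
    fin_cases i <;> fin_cases j <;> simp [tz] <;> ring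
  have hcomb : ∀ g a1 a2 a3, ∃ b1 b2 b3,
      adRep ρ g (comb D H F a1 a2 a3) = comb D H F b1 b2 b3 := by
    intro g a1 a2 a3
    obtain ⟨⟨u1, u2, u3, hA⟩, ⟨v1, v2, v3, hBg⟩, ⟨w1, w2, w3, hDg⟩⟩ := hinv g
    refine ⟨a1 * u1 + a2 * v1 + a3 * w1, a1 * u2 + a2 * v2 + a3 * w2,
      a1 * u3 + a2 * v3 + a3 * w3, ?_⟩
    rw [comb, map_add, map_add, map_smul, map_smul, map_smul, hA, hBg, hDg]
    simp only [comb]
    module
  have hmul : ∀ g g' M M', Rel g M → Rel g' M' → Rel (g * g') (M * M') := by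
    intro g g' M M' hM hM' a1 a2 a3 d1 d2 d3 e
    obtain ⟨b1, b2, b3, hb⟩ := hcomb g' a1 a2 a3
    rw [map_mul, Module.End.mul_apply, hb] at e
    rw [Units.val_mul, mul_assoc, hM' _ _ _ _ _ _ hb, ← mul_assoc, hM _ _ _ _ _ _ e, mul_assoc]
  have huniq : ∀ g M M', Rel g M → Rel g M' →
      Matrix.ProjGenLinGroup.mk M = Matrix.ProjGenLinGroup.mk M' := by
    intro g M M' hM hM'
    refine QuotientGroup.eq.2 ?_
    have key : ∀ a1 a2 a3 : k, (M⁻¹ * M').val * tz a1 a2 a3 = tz a1 a2 a3 * (M⁻¹ * M').val := by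
      intro a1 a2 a3
      obtain ⟨b1, b2, b3, hb⟩ := hcomb g a1 a2 a3
      rw [Units.val_mul, mul_assoc, hM' _ _ _ _ _ _ hb, ← mul_assoc, ← mul_assoc]
      congr 1
      calc M⁻¹.val * tz b1 b2 b3 = M⁻¹.val * (tz b1 b2 b3 * M.val) * M⁻¹.val := by
            rw [mul_assoc, mul_assoc, Units.mul_inv, mul_one]
        _ = tz a1 a2 a3 * M⁻¹.val := by
            rw [← hM _ _ _ _ _ _ hb, ← mul_assoc, Units.inv_mul, one_mul]
    exact mem_center_of_commute_tz (key 1 0 0) (key 0 0 1)
  choose m hm using hex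
  let ψ : G →* PGL(2, k) := MonoidHom.mk' (fun g => Matrix.ProjGenLinGroup.mk (m g))
    fun g g' => by rw [← map_mul]; exact huniq _ _ _ (hm _) (hmul _ _ _ _ (hm g) (hm g'))
  have hD : comb D H F 1 0 0 = D := by simp [comb]
  refine ⟨ψ, ?_, fun g hg => ?_, fun hall => ?_⟩
  · refine huniq x _ _ (hm x) fun a1 a2 a3 b1 b2 b3 e => ?_
    have e' : adRep ρ x (comb D H F a1 a2 a3) = comb D H F (a1 - 2 * a2 - a3) (a2 + a3) a3 := by
      rw [comb, map_add, map_add, map_smul, map_smul, map_smul, hxD, hxH, hxF, comb,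
        ← Nat.cast_smul_eq_nsmul k 2 D, Nat.cast_ofNat]
      module
    obtain ⟨r1, r2, r3⟩ := hinj' _ _ _ _ _ _ (e.symm.trans e')
    rw [r1, r2, r3]
    ext i j
    fin_cases i <;> fin_cases j <;>
      simp [tz, CfsgLib.Dickson.upperT, Matrix.GeneralLinearGroup.mkOfDetNeZero, Matrix.mul_apply,
        Fin.sum_univ_two] <;> ring
  · have hg' : Matrix.ProjGenLinGroup.mk (m g) = 1 := hg
    have hcen := Matrix.ProjGenLinGroup.mk_eq_one.1 hg'
    obtain ⟨b1, b2, b3, hb⟩ := hcomb g 1 0 0
    have e := hm g 1 0 0 b1 b2 b3 hb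
    have e2 : tz 1 0 0 = tz b1 b2 b3 := by
      have e3 : (m g).val * tz 1 0 0 = tz 1 0 0 * (m g).val := by
        rw [Matrix.GeneralLinearGroup.center_eq_range_scalar] at hcen
        obtain ⟨t, ht⟩ := hcen
        rw [← ht]
        exact (Matrix.scalar_commute (t : k) (fun r' => mul_comm _ r') _).eq
      calc tz 1 0 0 = tz 1 0 0 * (m g).val * (m g)⁻¹.val := by rw [mul_assoc, Units.mul_inv, mul_one]
        _ = tz b1 b2 b3 * (m g).val * (m g)⁻¹.val := by rw [← e3, e]
        _ = _ := by rw [mul_assoc, Units.mul_inv, mul_one]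
    have f1 := congrFun (congrFun e2 0) 1
    have f2 := congrFun (congrFun e2 0) 0
    have f3 := congrFun (congrFun e2 1) 0
    simp [tz] at f1 f2 f3
    rw [← f1, ← f2, ← f3, hD, adRep_apply] at hb
    have hcD : Commute (ρ g) D := by
      have := congrArg (· * ρ g) hb
      simp only [mul_assoc, rho_inv_mul, mul_one] at this
      exact this
    rw [← hDX]
    exact Commute.trExp_right hcD
  · have hDne : D ≠ 0 := fun e => hc0 (by rw [hc, e, zero_mul, map_zero])
    have hker : ∀ g, ∀ v ∈ LinearMap.ker D, ρ g v ∈ LinearMap.ker D := by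
      intro g v hv
      obtain ⟨M, hgM, hM0⟩ := hall g⁻¹
      obtain ⟨t, ht⟩ := Matrix.ProjGenLinGroup.mk_eq_mk_iff.1
        (show Matrix.ProjGenLinGroup.mk (m g⁻¹) = Matrix.ProjGenLinGroup.mk M from hgM)
      obtain ⟨b1, b2, b3, hb⟩ := hcomb g⁻¹ 1 0 0
      have e := hm g⁻¹ 1 0 0 b1 b2 b3 hb
      have hm10 : (m g⁻¹).val 1 0 = 0 := by simpa [← ht] using hM0
      have hm00 : (m g⁻¹).val 0 0 ≠ 0 := fun e0 => by
        apply Matrix.GeneralLinearGroup.det_ne_zero (m g⁻¹)
        rw [Matrix.det_fin_two, e0, hm10]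
        simp
      have g1 := congrFun (congrFun e 0) 0
      have g2 := congrFun (congrFun e 1) 0
      simp [tz, Matrix.mul_apply, Fin.sum_univ_two, hm10, hm00] at g1 g2
      rw [g1, g2, hD, adRep_apply, inv_inv] at hb
      simp only [comb, zero_smul, add_zero] at hb
      rw [LinearMap.mem_ker] at hv ⊢
      have h1 := congrArg (fun T : Module.End k V => ρ g (T v)) hb
      simp only [LinearMap.smul_apply, hv, smul_zero, map_zero, Module.End.mul_apply] at h1
      rwa [← Module.End.mul_apply (ρ g) (ρ g⁻¹), rho_mul_inv, Module.End.one_apply] at h1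
    rcases h.irred _ hker with e | e
    · obtain ⟨L, hL⟩ := hDnil
      have hid : Function.Injective D := LinearMap.ker_eq_bot.1 e
      haveI := h.nontrivial_V
      obtain ⟨v, hv⟩ := exists_ne (0 : V)
      have hLi : Function.Injective (D ^ L) := by
        rw [Module.End.coe_pow]; exact hid.iterate L
      exact hv (hLi (by rw [hL, LinearMap.zero_apply, LinearMap.zero_apply]))
    · exact hDne (LinearMap.ker_eq_top.1 e)

end Small

end CfsgLib.SmallPRep
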