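import Mathlib.Algebra.CharP.Lemmas
import Mathlib.Algebra.Polynomial.AlgebraMap
import Mathlib.RingTheory.Nilpotent.Basic
import Mathlib.Data.Nat.Factorial.Basic
import Mathlib.Data.Nat.Choose.Sum
import Mathlib.Data.Nat.Prime.Factorial
import Mathlib.Tactic.FieldSimp
import Mathlib.Tactic.LinearCombination
import Mathlib.Tactic.Module

/-!
# The truncated exponential in characteristic `p`

`trExp k p u = ∑_{j<p} u ^ j / j!`: additive on commuting elements of small nilpotency index,
injective there, and surjective onto the unipotent elements (`exists_trExp_eq`).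
-/

set_option autoImplicit false

namespace CfsgLib.SmallPRep

open Finset

variable (k : Type*) [Field k] (p : ℕ) [hp : Fact p.Prime] [CharP k p] {R : Type*} [Ring R] [Algebra k R]

/-- The truncated exponential. -/
def trExp (u : R) : R := ∑ j ∈ range p, ((j.factorial : k))⁻¹ • u ^ j

variable {k p}

theorem factorial_ne_zero_of_lt {j : ℕ} (hj : j < p) : (j.factorial : k) ≠ 0 := by
  rw [ne_eq, CharP.cast_eq_zero_iff k p, hp.out.dvd_factorial]
  omega

omit [CharP k p] in
theorem trExp_zero : trExp k p (0 : R) = 1 := by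
  rw [trExp, Finset.sum_eq_single 0]
  · simp
  · intro j _ hj; rw [zero_pow hj, smul_zero]
  · exact fun h => absurd (Finset.mem_range.2 hp.out.pos) h

omit [CharP k p] hp in
theorem Commute.trExp_right {y u : R} (h : Commute y u) : Commute y (trExp k p u) :=
  Commute.sum_right _ _ _ fun j _ => (h.pow_right j).smul_right _

omit [CharP k p] hp in
theorem map_trExp {S : Type*} [Ring S] [Algebra k S] (f : R →ₐ[k] S) (u : R) :
    f (trExp k p u) = trExp k p (f u) := by
  simp [trExp, map_sum]

omit [CharP k p] hp in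
theorem conj_trExp {a ai u : R} (h1 : a * ai = 1) (h2 : ai * a = 1) :
    a * trExp k p u * ai = trExp k p (a * u * ai) := by
  rw [trExp, trExp, Finset.mul_sum, Finset.sum_mul]
  refine Finset.sum_congr rfl fun j _ => ?_
  rw [mul_smul_comm, smul_mul_assoc]
  congr 1
  rename_i hj
  clear hj
  induction j with
  | zero => simp [h1]
  | succ j ih =>
    rw [pow_succ, pow_succ, ← ih]
    calc a * (u ^ j * u) * ai = a * (u ^ j * (ai * a)) * u * ai := by simp [h2, mul_assoc]
      _ = _ := by simp [mul_assoc]

/-- Additivity. -/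
theorem trExp_add {u v : R} (huv : Commute u v) {L : ℕ} (hu : u ^ L = 0) (hv : v ^ L = 0)
    (hL : 2 * L ≤ p + 1) : trExp k p (u + v) = trExp k p u * trExp k p v := by
  classical
  have hrhs : trExp k p u * trExp k p v =
      ∑ q ∈ (range p ×ˢ range p).filter (fun q => q.1 + q.2 < p),
        ((q.1.factorial : k) * (q.2.factorial : k))⁻¹ • (u ^ q.1 * v ^ q.2) := by
    rw [trExp, trExp, Finset.sum_mul_sum, ← Finset.sum_product']
    rw [Finset.sum_filter]
    refine Finset.sum_congr rfl fun q _ => ?_
    rw [smul_mul_assoc, mul_smul_comm, smul_smul, ← mul_inv]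
    split_ifs with h
    · rfl
    · rcases (show L ≤ q.1 ∨ L ≤ q.2 by omega) with h' | h'
      · rw [pow_eq_zero_of_le h' hu, zero_mul, smul_zero]
      · rw [pow_eq_zero_of_le h' hv, mul_zero, smul_zero]
  have hterm : ∀ m ∈ range p, ((m.factorial : k))⁻¹ • (u + v) ^ m =
      ∑ q ∈ antidiagonal m, ((q.1.factorial : k) * (q.2.factorial : k))⁻¹ • (u ^ q.1 * v ^ q.2) := by
    intro m hm
    rw [huv.add_pow', Finset.smul_sum]
    refine Finset.sum_congr rfl fun q hq => ?_
    rw [Finset.HasAntidiagonal.mem_antidiagonal] at hq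
    rw [← Nat.cast_smul_eq_nsmul k, smul_smul]
    congr 1
    have h1 := Nat.add_choose_mul_factorial_mul_factorial q.1 q.2
    rw [← Nat.choose_symm_add, hq] at h1
    have h2 : (m.choose q.1 : k) * ((q.1.factorial : k) * (q.2.factorial : k)) = m.factorial := by
      rw [← mul_assoc]; exact_mod_cast congrArg (Nat.cast : ℕ → k) h1
    rw [Finset.mem_range] at hm
    have h3 : (m.factorial : k) ≠ 0 := factorial_ne_zero_of_lt hm
    have h4 : (q.1.factorial : k) * (q.2.factorial : k) ≠ 0 := by
      intro h0; rw [h0, mul_zero] at h2; exact h3 h2.symm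
    have hC : (m.choose q.1 : k) ≠ 0 := fun h0 => by rw [h0, zero_mul] at h2; exact h3 h2.symm
    rw [← h2, _root_.mul_inv, mul_comm (m.choose q.1 : k)⁻¹, mul_assoc, inv_mul_cancel₀ hC, mul_one]
  rw [hrhs, trExp, Finset.sum_congr rfl hterm, Finset.sum_sigma']
  refine Finset.sum_nbij' (fun q => q.2) (fun q => ⟨q.1 + q.2, q⟩) ?_ ?_ ?_ ?_ ?_
  · intro q hq
    simp only [Finset.mem_sigma, Finset.mem_range, Finset.HasAntidiagonal.mem_antidiagonal] at hq
    simp only [Finset.mem_filter, Finset.mem_product, Finset.mem_range]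
    omega
  · intro q hq
    simp only [Finset.mem_filter, Finset.mem_product, Finset.mem_range] at hq
    simp only [Finset.coe_sigma, Finset.mem_coe, Finset.mem_sigma, Finset.mem_range,
      Finset.HasAntidiagonal.mem_antidiagonal, and_true]
    omega
  · rintro ⟨m, q⟩ hq
    simp only [Finset.mem_sigma, Finset.mem_range, Finset.HasAntidiagonal.mem_antidiagonal] at hq
    obtain ⟨-, rfl⟩ := hq
    rfl
  · intro q _; rfl
  · intro q _; rfl

theorem trExp_mul_neg {u : R} {L : ℕ} (hu : u ^ L = 0) (hL : 2 * L ≤ p + 1) :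
    trExp k p u * trExp k p (-u) = 1 := by
  rw [← trExp_add (Commute.refl u).neg_right hu (by rw [neg_pow, hu, mul_zero]) hL, add_neg_cancel,
    trExp_zero]

theorem trExp_pow {u : R} {L : ℕ} (hu : u ^ L = 0) (hL : 2 * L ≤ p + 1) (a : ℕ) :
    trExp k p u ^ a = trExp k p (a • u) := by
  induction a with
  | zero => rw [pow_zero, zero_smul, trExp_zero]
  | succ a ih =>
    rw [pow_succ, ih, succ_nsmul, trExp_add ((Commute.refl u).smul_left a)
      (by rw [smul_pow, hu, smul_zero]) hu hL]

/-- `trExp u - 1` is `u` times a unit. -/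
theorem exists_trExp_eq_add {u : R} (hu : IsNilpotent u) (hp2 : 2 ≤ p) :
    ∃ w : R, IsUnit w ∧ Commute u w ∧ trExp k p u = 1 + u * w := by
  obtain ⟨q, rfl⟩ : ∃ q, p = q + 2 := ⟨p - 2, by omega⟩
  set w' : R := ∑ j ∈ range q, (((j + 2).factorial : k))⁻¹ • u ^ j with hw'
  have hc : Commute u w' := Commute.sum_right _ _ _ fun j _ => ((Commute.refl u).pow_right j).smul_right _
  refine ⟨1 + u * w', (hc.isNilpotent_mul_right hu).isUnit_one_add,
    (Commute.one_right u).add_right ((Commute.refl u).mul_right hc), ?_⟩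
  rw [trExp, Finset.sum_range_succ', Finset.sum_range_succ', hw', mul_add, mul_one, ← mul_assoc,
    Finset.mul_sum]
  simp only [zero_add, Nat.factorial_one, Nat.factorial_zero, Nat.cast_one, inv_one, one_smul,
    pow_one, pow_zero, mul_smul_comm, ← pow_two, ← pow_add]
  rw [Finset.sum_congr rfl fun j _ => show (((j + 1 + 1).factorial : k))⁻¹ • u ^ (j + 1 + 1) =
    (((j + 2).factorial : k))⁻¹ • u ^ (2 + j) by rw [add_comm 2 j]]
  abel

theorem trExp_injective {u v : R} (huv : Commute u v) {L : ℕ} (hu : u ^ L = 0) (hv : v ^ L = 0)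
    (hL : 2 * L ≤ p + 1) (h : trExp k p u = trExp k p v) : u = v := by
  have hv' : (-v) ^ L = 0 := by rw [neg_pow, hv, mul_zero]
  have h1 : trExp k p (u - v) = 1 := by
    rw [sub_eq_add_neg, trExp_add huv.neg_right hu hv' hL, h, trExp_mul_neg hv hL]
  obtain ⟨w, hw, -, he⟩ := exists_trExp_eq_add (k := k) (p := p)
    (huv.isNilpotent_sub ⟨L, hu⟩ ⟨L, hv⟩) hp.out.two_le
  rw [h1, left_eq_add, hw.mul_left_eq_zero] at he
  exact sub_eq_zero.1 he

/-- The truncated logarithm. -/
theorem exists_trExp_eq {A : R} {L : ℕ} (hA : A ^ L = 0) (hL : 2 * L ≤ p + 1) (hp3 : 3 ≤ p) :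
    ∃ q : Polynomial k, trExp k p (A * Polynomial.aeval A q) = 1 + A := by
  have hcA : ∀ q q' : Polynomial k, Commute (Polynomial.aeval A q) (Polynomial.aeval A q') :=
    fun q q' => (Commute.all q q').map (Polynomial.aeval A)
  have hA' : ∀ q : Polynomial k, (A * Polynomial.aeval A q) ^ L = 0 := fun q => by
    have hc : Commute A (Polynomial.aeval A q) := by simpa using hcA Polynomial.X q
    rw [hc.mul_pow, hA, zero_mul]
  have step : ∀ m, 1 ≤ m → ∃ q s : Polynomial k,
      (1 + A) * trExp k p (-(A * Polynomial.aeval A q)) = 1 + A ^ m * Polynomial.aeval A s := by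
    intro m hm
    induction m, hm using Nat.le_induction with
    | base => exact ⟨0, 1, by simp [trExp_zero]⟩
    | succ m hm ih =>
      obtain ⟨q, s, hqs⟩ := ih
      obtain ⟨l, rfl⟩ : ∃ l, m = l + 1 := ⟨m - 1, by omega⟩
      set δ : Polynomial k := Polynomial.X ^ (l + 1) * s with hδ
      have hδA : Polynomial.aeval A δ = A ^ (l + 1) * Polynomial.aeval A s := by simp [hδ]
      have hδL : Polynomial.aeval A δ = A * Polynomial.aeval A (Polynomial.X ^ l * s) := by
        simp [hδA, pow_succ', mul_assoc]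
      -- the exponential of a small element
      let S : Polynomial k := ∑ j ∈ range (p - 2), (((j + 2).factorial : k))⁻¹ • (-δ) ^ j
      have hexp : trExp k p (-Polynomial.aeval A δ) =
          Polynomial.aeval A (1 - δ + δ ^ 2 * S) := by
        have e : trExp k p (-δ) = 1 - δ + δ ^ 2 * S := by
          obtain ⟨q, rfl⟩ : ∃ q, p = q + 2 := ⟨p - 2, by omega⟩
          rw [trExp, Finset.sum_range_succ', Finset.sum_range_succ', Finset.mul_sum,
            Nat.add_sub_cancel]
          simp only [zero_add, Nat.factorial_one, Nat.factorial_zero, Nat.cast_one, inv_one,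
            one_smul, pow_one, pow_zero, mul_smul_comm]
          rw [Finset.sum_congr rfl fun j _ => show
            (((j + 1 + 1).factorial : k))⁻¹ • (-δ) ^ (j + 1 + 1) =
            (((j + 2).factorial : k))⁻¹ • (δ ^ 2 * (-δ) ^ j) by
              rw [pow_add (-δ), pow_add (-δ), mul_assoc, ← pow_add, neg_sq, mul_comm]]
          ring
        rw [← map_neg, ← map_trExp, e]
      refine ⟨q + Polynomial.X ^ l * s, Polynomial.X ^ l * s ^ 2 * (-1 + S + δ * S), ?_⟩
      have e1 : -(A * Polynomial.aeval A (q + Polynomial.X ^ l * s)) =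
          -(A * Polynomial.aeval A q) + -Polynomial.aeval A δ := by
        rw [map_add, mul_add, neg_add, hδL]
      have hcc : Commute (A * Polynomial.aeval A q) (Polynomial.aeval A δ) := by
        have := hcA (Polynomial.X * q) δ
        simpa using this
      rw [e1, trExp_add hcc.neg_left.neg_right (by rw [neg_pow, hA', mul_zero])
        (by rw [neg_pow, hδL, hA', mul_zero]) hL, ← mul_assoc, hqs, hexp]
      have e2 : (1 : R) + A ^ (l + 1) * Polynomial.aeval A s = Polynomial.aeval A (1 + δ) := by
        simp [hδA]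
      rw [e2, ← map_mul, show (1 + δ) * (1 - δ + δ ^ 2 * S) =
        1 + Polynomial.X ^ (l + 1 + 1) * (Polynomial.X ^ l * s ^ 2 * (-1 + S + δ * S)) by
          rw [hδ]; ring]
      simp [mul_assoc]
  obtain ⟨q, s, h⟩ := step (L + 1) (Nat.le_add_left 1 L)
  refine ⟨q, ?_⟩
  rw [pow_eq_zero_of_le (Nat.le_succ L) hA, zero_mul, add_zero] at h
  have h2 := trExp_mul_neg (k := k) (hA' q) hL
  calc trExp k p (A * Polynomial.aeval A q)
      = (1 + A) * trExp k p (-(A * Polynomial.aeval A q)) * trExp k p (A * Polynomial.aeval A q) := by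
        rw [h, one_mul]
    _ = 1 + A := by
        rw [mul_assoc]
        have h3 : Commute (trExp k p (-(A * Polynomial.aeval A q)))
            (trExp k p (A * Polynomial.aeval A q)) :=
          Commute.trExp_right (Commute.trExp_right (Commute.refl _).neg_right).symm
        rw [h3.eq, h2, mul_one]

end CfsgLib.SmallPRep
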