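import Cfsg.Agent.SmallPRep.Averaging
import Cfsg.Agent.SmallPRep.TruncExp
import Mathlib.GroupTheory.SchurZassenhaus
import Mathlib.RepresentationTheory.Basic
import Mathlib.LinearAlgebra.Trace
import Mathlib.LinearAlgebra.Eigenspace.Zero

/-!
# An element of order `p` in a small irreducible representation in characteristic `p`

It has a single homogeneous block, and its logarithm extends to a triple with the relations of
`sl(2)`, semi-invariant under the normaliser (`exists_triple`).
-/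

set_option autoImplicit false

namespace CfsgLib.SmallPRep

open Finset

universe u v w

variable {k : Type u} [Field k] {p : ℕ} [hp : Fact p.Prime] [CharP k p]
  {G : Type v} [Group G] [Finite G] {V : Type w} [AddCommGroup V] [Module k V] [FiniteDimensional k V]

/-- An irreducible representation of dimension below `p / 2`, nontrivial on an element `x` of order
`p` generating a Sylow subgroup. -/
structure Small (ρ : Representation k G V) (P : Subgroup G) (x : G) (p : ℕ) : Prop where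
  card : Nat.card P = p
  sq : ¬ p ^ 2 ∣ Nat.card G
  mem : x ∈ P
  nontrivial : ρ x ≠ 1
  irred : ∀ U : Submodule k V, (∀ g, ∀ v ∈ U, ρ g v ∈ U) → U = ⊥ ∨ U = ⊤
  small : 2 * Module.finrank k V + 1 ≤ p
  seven : 7 ≤ p

omit [Field k] hp [CharP k p] in
theorem commute_aeval {k : Type u} [CommRing k] {R : Type*} [Ring R] [Algebra k R] {a b : R}
    (h : Commute a b) (q : Polynomial k) : Commute a (Polynomial.aeval b q) := by
  induction q using Polynomial.induction_on' with
  | add q r hq hr => rw [map_add]; exact hq.add_right hr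
  | monomial i c =>
    rw [Polynomial.aeval_monomial]
    exact (Algebra.commute_algebraMap_right c a).mul_right (h.pow_right i)

omit [Field k] hp [CharP k p] in
theorem conj_aeval {k : Type u} [CommRing k] {R : Type*} [Ring R] [Algebra k R] {a ai : R}
    (h1 : a * ai = 1) (h2 : ai * a = 1) (b : R) (q : Polynomial k) :
    a * Polynomial.aeval b q * ai = Polynomial.aeval (a * b * ai) q := by
  induction q using Polynomial.induction_on' with
  | add q r hq hr => rw [map_add, map_add, mul_add, add_mul, hq, hr]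
  | monomial i c =>
    rw [Polynomial.aeval_monomial, Polynomial.aeval_monomial, ← mul_assoc,
      ← (Algebra.commute_algebraMap_left c a).eq, mul_assoc, mul_assoc]
    congr 1
    induction i with
    | zero => simp [h1]
    | succ i ih =>
      rw [pow_succ, pow_succ, ← ih]
      calc a * (b ^ i * b * ai) = a * (b ^ i * (ai * a) * (b * ai)) := by
            rw [h2, mul_one, mul_assoc]
        _ = _ := by simp only [mul_assoc]

/-- Each element of the normaliser is a power of `x` times an element of a complement. -/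
theorem exists_complement {P : Subgroup G} (hP : Nat.card P = p) (hsq : ¬ p ^ 2 ∣ Nat.card G)
    {x : G} (hx : x ∈ P) (hx1 : x ≠ 1) :
    ∃ K : Subgroup G, K ≤ Subgroup.normalizer (P : Set G) ∧ (Nat.card K : k) ≠ 0 ∧
      ∀ g ∈ Subgroup.normalizer (P : Set G), ∃ i : ℕ, ∃ c ∈ K, g = x ^ i * c := by
  set N := Subgroup.normalizer (P : Set G)
  haveI : (P.subgroupOf N).Normal := Subgroup.normal_in_normalizer
  have hcard : Nat.card (P.subgroupOf N) = p := by
    rw [Nat.card_congr (Subgroup.subgroupOfEquivOfLe Subgroup.le_normalizer).toEquiv, hP]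
  have hnd : ¬ p ∣ (P.subgroupOf N).index := fun hd => hsq (by
    refine Dvd.dvd.trans ?_ (Subgroup.card_subgroup_dvd_card N)
    rw [← (P.subgroupOf N).card_mul_index, hcard, sq]
    exact mul_dvd_mul_left p hd)
  obtain ⟨K, hK⟩ := Subgroup.exists_right_complement'_of_coprime
    (hcard ▸ hp.out.coprime_iff_not_dvd.2 hnd : (Nat.card (P.subgroupOf N)).Coprime _)
  refine ⟨K.map N.subtype, Subgroup.map_subtype_le K, ?_, fun g hg => ?_⟩
  · rw [Subgroup.card_map_of_injective N.subtype_injective, ← hK.symm.index_eq_card, ne_eq,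
      CharP.cast_eq_zero_iff k p]
    exact hnd
  · obtain ⟨⟨a, c⟩, hac⟩ := hK.surjective ⟨g, hg⟩
    obtain ⟨i, hi⟩ := mem_powers_iff_mem_zpowers.2 (mem_zpowers_of_prime_card
      (g := (⟨x, hx⟩ : P)) (g' := ⟨((a : N) : G), Subgroup.mem_subgroupOf.1 a.2⟩) hP
      fun e => hx1 (congrArg Subtype.val e))
    refine ⟨i, ((c : N) : G), Subgroup.mem_map_of_mem _ c.2, ?_⟩
    rw [show x ^ i = ((a : N) : G) from congrArg Subtype.val hi]
    exact (congrArg Subtype.val hac).symm

omit [CharP k p] hp in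
theorem rho_inv_mul (ρ : Representation k G V) (g : G) : ρ g⁻¹ * ρ g = 1 := by
  rw [← map_mul, inv_mul_cancel, map_one]

omit [CharP k p] hp in
theorem rho_mul_inv (ρ : Representation k G V) (g : G) : ρ g * ρ g⁻¹ = 1 := by
  rw [← map_mul, mul_inv_cancel, map_one]

namespace Small

variable {ρ : Representation k G V} {P : Subgroup G} {x : G} (h : Small ρ P x p)
include h hp

omit [CharP k p] in
theorem ne_one : x ≠ 1 := fun e => h.nontrivial (by rw [e, map_one])

omit [CharP k p] in
theorem pow_eq_one : x ^ p = 1 := by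
  rw [← h.card]
  exact congrArg Subtype.val (pow_card_eq_one' (x := (⟨x, h.mem⟩ : P)))

omit [CharP k p] in
theorem nontrivial_V : Nontrivial V := by
  by_contra hV
  rw [not_nontrivial_iff_subsingleton] at hV
  exact h.nontrivial (LinearMap.ext fun v => Subsingleton.elim _ _)

/-- The logarithm of `ρ x`. -/
theorem exists_log : ∃ (L : ℕ) (D : Module.End k V), 2 ≤ L ∧ 2 * L + 1 ≤ p ∧ D ^ L = 0 ∧
    D ^ (L - 1) ≠ 0 ∧ (ρ x - 1) ^ L = 0 ∧ trExp k p D = ρ x ∧
    ∀ g ∈ Subgroup.normalizer (P : Set G), ∃ a : k, a ≠ 0 ∧ ρ g * D * ρ g⁻¹ = a • D := by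
  classical
  haveI := h.nontrivial_V
  haveI : CharP (Module.End k V) p := charP_of_injective_algebraMap' k p
  set A := ρ x - 1 with hAdef
  have hAp : A ^ p = 0 := by
    rw [hAdef, sub_pow_char_of_commute p (Commute.one_right _), one_pow, ← map_pow, h.pow_eq_one,
      map_one, sub_self]
  have hAn : A ^ Module.finrank k V = 0 := by
    have h1 := ((LinearMap.charpoly_eq_X_pow_iff A).2 fun m => ⟨p, by rw [hAp]; rfl⟩)
    have h2 := LinearMap.aeval_self_charpoly A
    rw [h1, map_pow, Polynomial.aeval_X] at h2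
    exact h2
  have hex : ∃ L, A ^ L = 0 := ⟨_, hAn⟩
  set L := Nat.find hex
  have hAL : A ^ L = 0 := Nat.find_spec hex
  have hLn : L ≤ Module.finrank k V := Nat.find_le hAn
  have hL2 : 2 ≤ L := by
    by_contra hlt
    have : A ^ 1 = 0 := pow_eq_zero_of_le (by omega) hAL
    rw [pow_one] at this
    exact h.nontrivial (sub_eq_zero.1 this)
  have hsmall := h.small
  have hseven := h.seven
  have hLp : 2 * L ≤ p + 1 := by omega
  obtain ⟨q, hq⟩ := exists_trExp_eq (k := k) (p := p) hAL hLp (by omega)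
  set D := A * Polynomial.aeval A q with hD
  have hcA : Commute A (Polynomial.aeval A q) := commute_aeval (Commute.refl A) q
  have hDL : D ^ L = 0 := by rw [hD, hcA.mul_pow, hAL, zero_mul]
  have hDX : trExp k p D = ρ x := by rw [hq, hAdef]; abel
  have hDne : D ^ (L - 1) ≠ 0 := fun h0 => by
    obtain ⟨w, -, hDw, he⟩ := exists_trExp_eq_add (k := k) (p := p) ⟨L, hDL⟩ hp.out.two_le
    rw [hDX] at he
    have hA' : A = D * w := by rw [hAdef, he]; abel
    have : A ^ (L - 1) = 0 := by rw [hA', hDw.mul_pow, h0, zero_mul]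
    exact Nat.find_min hex (show L - 1 < L by omega) this
  refine ⟨L, D, hL2, by omega, hDL, hDne, hAL, hDX, fun g hg => ?_⟩
  have hgx : g * x * g⁻¹ ∈ P := (Subgroup.mem_normalizer_iff.1 hg x).1 h.mem
  obtain ⟨a, ha⟩ := mem_powers_iff_mem_zpowers.2 (mem_zpowers_of_prime_card
    (g := (⟨x, h.mem⟩ : P)) (g' := ⟨_, hgx⟩) h.card fun e => h.ne_one (congrArg Subtype.val e))
  have ha' : x ^ a = g * x * g⁻¹ := congrArg Subtype.val ha
  have hcomm : Commute (ρ g * D * ρ g⁻¹) D := by
    have h1 : Commute (ρ (g * x * g⁻¹)) A := by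
      rw [← ha', map_pow]
      exact (((Commute.refl (ρ x)).pow_left a).sub_right (Commute.one_right _))
    have h2 : Commute (ρ (g * x * g⁻¹)) D := h1.mul_right (commute_aeval h1 q)
    have h3 : ρ g * A * ρ g⁻¹ = ρ (g * x * g⁻¹) - 1 := by
      rw [hAdef, mul_sub, sub_mul, mul_one, rho_mul_inv, map_mul, map_mul]
    have h4 : Commute (ρ g * A * ρ g⁻¹) D := h3 ▸ h2.sub_left (Commute.one_left _)
    have h5 : ρ g * Polynomial.aeval A q * ρ g⁻¹ = Polynomial.aeval (ρ g * A * ρ g⁻¹) q := by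
      exact conj_aeval (rho_mul_inv ρ g) (rho_inv_mul ρ g) A q
    rw [show ρ g * D * ρ g⁻¹ = ρ g * A * ρ g⁻¹ * (ρ g * Polynomial.aeval A q * ρ g⁻¹) by
      rw [hD]
      calc ρ g * (A * Polynomial.aeval A q) * ρ g⁻¹
          = ρ g * A * (ρ g⁻¹ * ρ g) * Polynomial.aeval A q * ρ g⁻¹ := by
            rw [rho_inv_mul, mul_one, mul_assoc (ρ g) A]
        _ = _ := by simp only [mul_assoc], h5]
    exact h4.mul_left (commute_aeval h4.symm q).symm
  have hcn : ∀ j : ℕ, (ρ g * D * ρ g⁻¹) ^ j = ρ g * D ^ j * ρ g⁻¹ := fun j => by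
    induction j with
    | zero => simp [rho_mul_inv]
    | succ j ih =>
      rw [pow_succ, ih, pow_succ]
      calc ρ g * D ^ j * ρ g⁻¹ * (ρ g * D * ρ g⁻¹)
          = ρ g * D ^ j * (ρ g⁻¹ * ρ g) * D * ρ g⁻¹ := by simp only [mul_assoc]
        _ = _ := by rw [rho_inv_mul, mul_one, mul_assoc (ρ g)]
  have hE : ρ g * D * ρ g⁻¹ = (a : k) • D := by
    refine trExp_injective (k := k) (p := p) (hcomm.smul_right (a : k)) (L := L) ?_ ?_ hLp ?_
    · rw [hcn, hDL, mul_zero, zero_mul]
    · rw [smul_pow, hDL, smul_zero]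
    · rw [← conj_trExp (rho_mul_inv ρ g) (rho_inv_mul ρ g), hDX, ← map_mul, ← map_mul, ← ha',
        map_pow, Nat.cast_smul_eq_nsmul, ← trExp_pow hDL hLp, hDX]
  refine ⟨a, fun h0 => h.ne_one ?_, hE⟩
  rw [CharP.cast_eq_zero_iff k p] at h0
  obtain ⟨b, rfl⟩ := h0
  rw [pow_mul, h.pow_eq_one, one_pow] at ha'
  exact conj_eq_one_iff.1 ha'.symm

/-- The chain structure and the triple. -/
theorem exists_triple : ∃ (L : ℕ) (D H F : Module.End k V), 2 ≤ L ∧ 2 * L + 1 ≤ p ∧
    (ρ x - 1) ^ L = 0 ∧ trExp k p D = ρ x ∧ D ^ L = 0 ∧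
    H * D - D * H = 2 • D ∧ H * F - F * H = -(2 • F) ∧ D * F - F * D = H ∧
    LinearMap.trace k V (D * F) ≠ 0 ∧
    ∃ K : Subgroup G, K ≤ Subgroup.normalizer (P : Set G) ∧
      (∀ g ∈ Subgroup.normalizer (P : Set G), ∃ i : ℕ, ∃ c ∈ K, g = x ^ i * c) ∧
      ∀ c ∈ K, ∃ a : k, a ≠ 0 ∧ ρ c * D * ρ c⁻¹ = a • D ∧ ρ c * H * ρ c⁻¹ = H ∧
        ρ c * F * ρ c⁻¹ = a⁻¹ • F := by
  classical
  obtain ⟨L, D, hL2, hLp, hDL, hDne, hAL, hDX, hDN⟩ := h.exists_log
  obtain ⟨K, hKN, hKc, hNK⟩ := exists_complement (k := k) h.card h.sq h.mem h.ne_one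
  haveI := Fintype.ofFinite K
  have hsemi : ∀ c ∈ K, ∃ a : k, a ≠ 0 ∧ ∀ j : ℕ, ρ c * D ^ j = a ^ j • (D ^ j * ρ c) := by
    intro c hc
    obtain ⟨a, ha0, ha⟩ := hDN c (hKN hc)
    have h1 : ρ c * D = a • (D * ρ c) := by
      rw [← smul_mul_assoc, ← ha, mul_assoc _ (ρ c⁻¹), rho_inv_mul, mul_one]
    refine ⟨a, ha0, fun j => ?_⟩
    induction j with
    | zero => simp
    | succ j ih =>
      rw [pow_succ, ← mul_assoc, ih, smul_mul_assoc, mul_assoc, h1, mul_smul_comm, smul_smul,
        pow_succ, mul_assoc]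
  -- a stable complement of the kernel of the top power
  set Z := LinearMap.ker (D ^ (L - 1)) with hZ
  obtain ⟨π₁, hπ₁⟩ : ∃ π₁ : Module.End k V, LinearMap.IsProj Z π₁ := by
    obtain ⟨C, hC⟩ := Submodule.exists_isCompl Z
    exact ⟨Z.projection C hC, ⟨fun v => Submodule.projection_apply_mem _ v,
      fun v hv => Submodule.projection_apply_left hC ⟨v, hv⟩⟩⟩
  have hZK : ∀ c ∈ K, ∀ v ∈ Z, ρ c v ∈ Z := by
    intro c hc v hv
    obtain ⟨a, ha0, ha⟩ := hsemi c hc
    have h1 := LinearMap.congr_fun (ha (L - 1)) v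
    rw [Module.End.mul_apply, LinearMap.smul_apply, Module.End.mul_apply] at h1
    rw [hZ, LinearMap.mem_ker] at hv ⊢
    rw [hv, map_zero, eq_comm] at h1
    exact (smul_eq_zero.1 h1).resolve_left (pow_ne_zero _ ha0)
  let π₂ : Module.End k V := (Nat.card K : k)⁻¹ • ∑ c : K, ρ (c : G) * π₁ * ρ (c : G)⁻¹
  have hπ₂ : LinearMap.IsProj Z π₂ := by
    refine ⟨fun v => ?_, fun v hv => ?_⟩
    · simp only [π₂, LinearMap.smul_apply, LinearMap.sum_apply, Module.End.mul_apply]
      exact Z.smul_mem _ (Submodule.sum_mem _ fun c _ => hZK c c.2 _ (hπ₁.map_mem _))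
    · simp only [π₂, LinearMap.smul_apply, LinearMap.sum_apply, Module.End.mul_apply]
      rw [Finset.sum_congr rfl (g := fun _ => v) fun c _ => by
        rw [hπ₁.map_id _ (hZK _ (inv_mem c.2) v hv), ← Module.End.mul_apply, rho_mul_inv,
          Module.End.one_apply],
        Finset.sum_const, Finset.card_univ, ← Nat.card_eq_fintype_card, ← Nat.cast_smul_eq_nsmul k,
        inv_smul_smul₀ hKc]
  have hπ₂K : ∀ c ∈ K, ρ c * π₂ = π₂ * ρ c := by
    intro c hc
    simp only [π₂, mul_smul_comm, smul_mul_assoc, Finset.mul_sum, Finset.sum_mul]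
    congr 1
    refine Fintype.sum_equiv (Equiv.mulLeft (⟨c, hc⟩ : K)) _ _ fun d => ?_
    rw [Equiv.coe_mulLeft, Subgroup.coe_mul, _root_.mul_inv_rev, map_mul, map_mul]
    simp only [mul_assoc, rho_inv_mul, mul_one]
  set S := LinearMap.ker π₂ with hS
  have hSK : ∀ c ∈ K, ∀ v ∈ S, ρ c v ∈ S := fun c hc v hv => by
    rw [hS, LinearMap.mem_ker] at hv ⊢
    rw [← Module.End.mul_apply, ← hπ₂K c hc, Module.End.mul_apply, hv, map_zero]
  have hSZ : ∀ v ∈ S, (D ^ (L - 1)) v = 0 → v = 0 := fun v hv h0 => by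
    rw [← hπ₂.map_id v (LinearMap.mem_ker.2 h0)]
    exact hv
  -- the chains
  let Φ : (Fin L → S) →ₗ[k] V :=
    ∑ j : Fin L, (D ^ (j : ℕ)).comp (S.subtype.comp (LinearMap.proj j))
  have hΦ : ∀ s, Φ s = ∑ j : Fin L, (D ^ (j : ℕ)) (s j : V) := fun s => by simp [Φ, LinearMap.sum_apply]
  have hΦsingle : ∀ (j : Fin L) (s : S), Φ (Pi.single j s) = (D ^ (j : ℕ)) (s : V) := fun j s => by
    rw [hΦ, Finset.sum_eq_single j]
    · rw [Pi.single_eq_same]
    · intro i _ hi; rw [Pi.single_eq_of_ne hi]; simp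
    · exact fun h' => absurd (Finset.mem_univ _) h'
  have hDpow : ∀ j, L ≤ j → D ^ j = 0 := fun j hj => pow_eq_zero_of_le hj hDL
  have hΦinj : Function.Injective Φ := by
    rw [← LinearMap.ker_eq_bot, LinearMap.ker_eq_bot']
    intro s hs
    rw [hΦ] at hs
    suffices ∀ m : ℕ, ∀ hm : m < L, s ⟨m, hm⟩ = 0 from funext fun j => this j j.2
    intro m
    induction m using Nat.strong_induction_on with
    | _ m ih =>
      intro hm
      refine Subtype.ext (hSZ _ (s ⟨m, hm⟩).2 ?_)
      have h1 := congrArg (D ^ (L - 1 - m)) hs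
      rw [map_sum, map_zero, Finset.sum_eq_single ⟨m, hm⟩] at h1
      · rw [← Module.End.mul_apply, ← pow_add, Nat.sub_add_cancel (by omega)] at h1
        exact h1
      · intro j _ hj
        rcases Nat.lt_or_ge (j : ℕ) m with hlt | hge
        · rw [show s j = 0 from ih j hlt j.2]; simp
        · have : m < (j : ℕ) := lt_of_le_of_ne hge fun e => hj (Fin.ext e.symm)
          rw [← Module.End.mul_apply, ← pow_add, hDpow _ (by omega), LinearMap.zero_apply]
      · exact fun h' => absurd (Finset.mem_univ _) h'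
  obtain ⟨Ψ, hΨ⟩ := Φ.exists_leftInverse_of_injective (LinearMap.ker_eq_bot.2 hΦinj)
  -- the projection on the chains
  let lam : V →ₗ[k] S := (LinearMap.proj (⟨L - 1, by omega⟩ : Fin L)).comp Ψ
  have hlam : ∀ (m : ℕ) (s : S), m < L →
      lam ((D ^ m) (s : V)) = if m = L - 1 then s else 0 := fun m s hm => by
    rw [← hΦsingle ⟨m, hm⟩ s]
    show Ψ (Φ (Pi.single ⟨m, hm⟩ s)) ⟨L - 1, _⟩ = _
    rw [show Ψ (Φ (Pi.single ⟨m, hm⟩ s)) = Pi.single ⟨m, hm⟩ s from LinearMap.congr_fun hΨ _]
    split_ifs with e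
    · subst e; rw [Pi.single_eq_same]
    · rw [Pi.single_eq_of_ne (by simp [Fin.ext_iff, Ne.symm e])]
  let π₀ : Module.End k V :=
    ∑ j ∈ range L, (D ^ j).comp (S.subtype.comp (lam.comp (D ^ (L - 1 - j))))
  have hπ₀ : ∀ v, π₀ v = ∑ j ∈ range L, (D ^ j) (lam ((D ^ (L - 1 - j)) v) : V) := fun v => by
    simp [π₀, LinearMap.sum_apply]
  set W := LinearMap.range Φ
  have hW : ∀ (j : ℕ) (s : S), (D ^ j) (s : V) ∈ W := fun j s => by
    rcases Nat.lt_or_ge j L with hj | hj
    · exact ⟨_, hΦsingle ⟨j, hj⟩ s⟩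
    · rw [hDpow j hj]; exact W.zero_mem
  have hWK : ∀ c ∈ K, ∀ v ∈ W, ρ c v ∈ W := by
    rintro c hc _ ⟨s, rfl⟩
    rw [hΦ, map_sum]
    refine Submodule.sum_mem _ fun j _ => ?_
    obtain ⟨a, -, ha⟩ := hsemi c hc
    rw [← Module.End.mul_apply, ha, LinearMap.smul_apply, Module.End.mul_apply]
    exact W.smul_mem _ (hW j ⟨_, hSK c hc _ (s j).2⟩)
  have hπ₀W : ∀ v, π₀ v ∈ W := fun v => by
    rw [hπ₀]; exact Submodule.sum_mem _ fun j _ => hW j _
  have hπ₀id : ∀ v ∈ W, π₀ v = v := by
    rintro _ ⟨s, rfl⟩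
    rw [hΦ, map_sum]
    refine Finset.sum_congr rfl fun i _ => ?_
    rw [hπ₀, Finset.sum_eq_single (i : ℕ)]
    · rw [← Module.End.mul_apply (D ^ (L - 1 - (i : ℕ))), ← pow_add,
        Nat.sub_add_cancel (by have := i.2; omega), hlam _ _ (by omega), if_pos rfl]
    · intro j hj hji
      rw [Finset.mem_range] at hj
      rw [← Module.End.mul_apply (D ^ (L - 1 - j)), ← pow_add]
      rcases Nat.lt_or_ge (L - 1 - j + (i : ℕ)) L with hlt | hge
      · rw [hlam _ _ hlt, if_neg (by omega)]; simp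
      · rw [hDpow _ hge]; simp
    · exact fun h' => absurd (Finset.mem_range.2 i.2) h'
  have hπ₀D : Commute D π₀ := by
    refine LinearMap.ext fun v => ?_
    obtain ⟨l, hl⟩ : ∃ l, L = l + 1 := ⟨L - 1, by omega⟩
    show D (π₀ v) = π₀ (D v)
    rw [hπ₀, hπ₀, map_sum]
    simp only [← Module.End.mul_apply, ← pow_succ', ← pow_succ, hl, Nat.add_sub_cancel]
    rw [Finset.sum_range_succ, Finset.sum_range_succ']
    congr 1
    · refine Finset.sum_congr rfl fun j hj => ?_
      rw [Finset.mem_range] at hj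
      rw [show l - (j + 1) + 1 = l - j by omega]
    · rw [hDpow (l + 1) (by omega), hDpow (l - 0 + 1) (by omega)]
      simp
  let π : Module.End k V := (Nat.card K : k)⁻¹ • ∑ c : K, ρ (c : G) * π₀ * ρ (c : G)⁻¹
  have hπD : Commute D π := by
    refine Commute.smul_right (Commute.sum_right _ _ _ fun c _ => ?_) _
    obtain ⟨a, ha0, ha⟩ := hsemi c c.2
    obtain ⟨b, hb0, hb⟩ := hsemi (c : G)⁻¹ (inv_mem c.2)
    have h1 := ha 1
    have h2 := hb 1
    simp only [pow_one] at h1 h2
    have hab : a * b = 1 := by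
      have e : D = (a * b) • D := by
        calc D = ρ (c : G) * (ρ (c : G)⁻¹ * D) := by rw [← mul_assoc, rho_mul_inv, one_mul]
          _ = (a * b) • D := by
            rw [h2, mul_smul_comm, ← mul_assoc, h1, smul_mul_assoc, mul_assoc, rho_mul_inv,
              mul_one, smul_smul, mul_comm b]
      by_contra hne
      have hD0 : (a * b - 1) • D = 0 := by rw [sub_smul, one_smul, ← e, sub_self]
      have hD1 := (smul_eq_zero.1 hD0).resolve_left (sub_ne_zero.2 hne)
      exact hDne (by rw [hD1, zero_pow (by omega)])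
    show D * (ρ (c : G) * π₀ * ρ (c : G)⁻¹) = ρ (c : G) * π₀ * ρ (c : G)⁻¹ * D
    rw [mul_assoc (ρ (c : G) * π₀) (ρ (c : G)⁻¹) D, h2, mul_smul_comm,
      ← mul_assoc (ρ (c : G) * π₀) D, mul_assoc (ρ (c : G)) π₀ D, ← hπ₀D.eq,
      ← mul_assoc (ρ (c : G)) D, h1]
    simp only [smul_mul_assoc, smul_smul, mul_comm b a, hab, one_smul, mul_assoc]
  have hπK : ∀ c ∈ K, ρ c * π = π * ρ c := by
    intro c hc
    simp only [π, mul_smul_comm, smul_mul_assoc, Finset.mul_sum, Finset.sum_mul]
    congr 1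
    refine Fintype.sum_equiv (Equiv.mulLeft (⟨c, hc⟩ : K)) _ _ fun d => ?_
    rw [Equiv.coe_mulLeft, Subgroup.coe_mul, _root_.mul_inv_rev, map_mul, map_mul]
    simp only [mul_assoc, rho_inv_mul, mul_one]
  have hπX : Commute (ρ x) π := hDX ▸ (Commute.trExp_right hπD.symm).symm
  have hπN : ∀ g ∈ Subgroup.normalizer (P : Set G), ρ g * π = π * ρ g := by
    intro g hg
    obtain ⟨i, c, hc, rfl⟩ := hNK g hg
    rw [map_mul, mul_assoc, hπK c hc, ← mul_assoc, map_pow, (hπX.pow_left i).eq, mul_assoc]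
  obtain ⟨f, φ, hf, hfe⟩ := exists_equivariant ρ h.card h.sq h.mem h.ne_one π hπN
  have hfπ : f = π := by
    obtain ⟨ψ, r, hr⟩ := exists_expansion k (p := p) (ρ x) (ρ x⁻¹) φ (rho_mul_inv ρ x)
      (rho_inv_mul ρ x)
    rw [hfe, hr, Finset.sum_eq_zero, add_zero]
    intro a _
    rcases Nat.lt_or_ge a L with ha | ha
    · rw [pow_eq_zero_of_le (show L ≤ p - 1 - a by omega) hAL, mul_zero, smul_zero]
    · rw [pow_eq_zero_of_le ha hAL, zero_mul, zero_mul, smul_zero]
  subst hfπ
  have hrange : LinearMap.range π = W := by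
    refine le_antisymm ?_ fun v hv => ⟨v, ?_⟩
    · rintro _ ⟨v, rfl⟩
      simp only [π, LinearMap.smul_apply, LinearMap.sum_apply, Module.End.mul_apply]
      exact W.smul_mem _ (Submodule.sum_mem _ fun c _ => hWK c c.2 _ (hπ₀W _))
    · simp only [π, LinearMap.smul_apply, LinearMap.sum_apply, Module.End.mul_apply]
      rw [Finset.sum_congr rfl (g := fun _ => v) fun c _ => by
        rw [hπ₀id _ (hWK _ (inv_mem c.2) v hv), ← Module.End.mul_apply, rho_mul_inv,
          Module.End.one_apply],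
        Finset.sum_const, Finset.card_univ, ← Nat.card_eq_fintype_card, ← Nat.cast_smul_eq_nsmul k,
        inv_smul_smul₀ hKc]
  have hSne : S ≠ ⊥ := by
    intro hb
    have hZtop : ∀ v : V, v ∈ Z := fun v => by
      have h1 : v - π₂ v ∈ S := by
        rw [hS, LinearMap.mem_ker, map_sub, hπ₂.map_id _ (hπ₂.map_mem v), sub_self]
      rw [hb, Submodule.mem_bot, sub_eq_zero] at h1
      rw [h1]
      exact hπ₂.map_mem v
    exact hDne (LinearMap.ext fun v => LinearMap.mem_ker.1 (hZtop v))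
  have hWtop : W = ⊤ := by
    refine (h.irred W fun g v hv => ?_).resolve_left fun hb => hSne ?_
    · rw [← hrange] at hv ⊢
      obtain ⟨u, rfl⟩ := hv
      exact ⟨ρ g u, (LinearMap.congr_fun (hf g) u).symm⟩
    · refine (Submodule.eq_bot_iff _).2 fun v hv => ?_
      have := hW 0 ⟨v, hv⟩
      rw [hb, Submodule.mem_bot] at this
      simpa using this
  -- coordinates
  let e : (Fin L → S) ≃ₗ[k] V := LinearEquiv.ofBijective Φ ⟨hΦinj, LinearMap.range_eq_top.1 hWtop⟩
  have hext : ∀ f g : Module.End k V,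
      (∀ (j : ℕ) (s : S), j < L → f ((D ^ j) (s : V)) = g ((D ^ j) (s : V))) → f = g := by
    intro f g hfg
    refine LinearMap.ext fun v => ?_
    obtain ⟨s, rfl⟩ := e.surjective v
    show f (Φ s) = g (Φ s)
    rw [hΦ, map_sum, map_sum]
    exact Finset.sum_congr rfl fun j _ => hfg j (s j) j.2
  have hmk : ∀ (cf : ℕ → k) (T : ℕ → ℕ), ∃ f : Module.End k V,
      ∀ (j : ℕ) (s : S), j < L → f ((D ^ j) (s : V)) = cf j • (D ^ T j) (s : V) := by
    intro cf T
    refine ⟨(∑ j : Fin L, cf j • (D ^ T j).comp (S.subtype.comp (LinearMap.proj j))).comp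
      e.symm.toLinearMap, fun j s hj => ?_⟩
    have : e.symm ((D ^ j) (s : V)) = Pi.single ⟨j, hj⟩ s := by
      rw [LinearEquiv.symm_apply_eq]
      exact (hΦsingle ⟨j, hj⟩ s).symm
    rw [LinearMap.comp_apply, LinearEquiv.coe_coe, this, LinearMap.sum_apply,
      Finset.sum_eq_single (⟨j, hj⟩ : Fin L)]
    · simp
    · intro i _ hi
      simp [Pi.single_eq_of_ne hi]
    · exact fun h' => absurd (Finset.mem_univ _) h'
  obtain ⟨H, hH⟩ := hmk (fun j => 2 * (j : k) - L + 1) id
  obtain ⟨F, hF⟩ := hmk (fun j => (j : k) * ((L : k) - j)) (fun j => j - 1)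
  have hH' : ∀ (j : ℕ) (s : S), H ((D ^ j) (s : V)) = (2 * (j : k) - L + 1) • (D ^ j) (s : V) := by
    intro j s
    rcases Nat.lt_or_ge j L with hj | hj
    · exact hH j s hj
    · rw [hDpow j hj]; simp
  have hF' : ∀ (j : ℕ) (s : S), j ≤ L →
      F ((D ^ j) (s : V)) = ((j : k) * ((L : k) - j)) • (D ^ (j - 1)) (s : V) := by
    intro j s hj
    rcases Nat.lt_or_ge j L with hj' | hj'
    · exact hF j s hj'
    · rw [show j = L by omega, hDpow L le_rfl]; simp
  have hDD : ∀ (j : ℕ) (s : S), D ((D ^ j) (s : V)) = (D ^ (j + 1)) (s : V) := fun j s => by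
    rw [pow_succ', Module.End.mul_apply]
  have e1 : H * D - D * H = 2 • D := hext _ _ fun j s hj => by
    simp only [LinearMap.sub_apply, Module.End.mul_apply, LinearMap.smul_apply, hDD, hH', map_smul]
    rw [← Nat.cast_smul_eq_nsmul k]
    push_cast
    module
  have e3 : D * F - F * D = H := hext _ _ fun j s hj => by
    simp only [LinearMap.sub_apply, Module.End.mul_apply, hDD, hF' j s hj.le,
      hF' (j + 1) s (by omega), hH', map_smul, Nat.add_sub_cancel]
    rcases j with _ | j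
    · simp only [Nat.cast_zero, zero_mul, zero_smul, zero_sub, ← neg_smul]
      congr 1
      push_cast; ring
    · rw [Nat.add_sub_cancel]
      push_cast
      module
  have e2 : H * F - F * H = -(2 • F) := hext _ _ fun j s hj => by
    simp only [LinearMap.sub_apply, Module.End.mul_apply, LinearMap.neg_apply, LinearMap.smul_apply,
      hF' j s hj.le, hH', map_smul]
    rw [← Nat.cast_smul_eq_nsmul k]
    rcases j with _ | j
    · simp
    · rw [Nat.add_sub_cancel]
      push_cast
      module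
  refine ⟨L, D, H, F, hL2, hLp, hAL, hDX, hDL, e1, e2, e3, ?_, K, hKN, hNK, fun c hc => ?_⟩
  · -- the trace
    let b := Module.finBasis k S
    let B : Module.Basis (Σ _ : Fin L, Fin (Module.finrank k S)) k V :=
      (Pi.basis fun _ => b).map e
    rw [LinearMap.trace_eq_matrix_trace k B, Matrix.trace]
    have hdiag : ∀ i : Σ _ : Fin L, Fin (Module.finrank k S),
        Matrix.diag (LinearMap.toMatrix B B (D * F)) i = (i.1 : k) * ((L : k) - (i.1 : k)) := by
      rintro ⟨j, l⟩
      have hB : B ⟨j, l⟩ = (D ^ (j : ℕ)) (b l : V) := by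
        simp only [B, Module.Basis.map_apply, Pi.basis_apply]
        exact hΦsingle j (b l)
      have hDF : (D * F) (B ⟨j, l⟩) = ((j : k) * ((L : k) - (j : k))) • B ⟨j, l⟩ := by
        rw [Module.End.mul_apply, hB, hF _ _ j.2, map_smul, hDD]
        rcases Nat.eq_zero_or_pos (j : ℕ) with h0 | h0
        · rw [h0]; simp
        · rw [Nat.sub_add_cancel h0]
      rw [Matrix.diag_apply, LinearMap.toMatrix_apply, hDF, map_smul, Finsupp.smul_apply,
        B.repr_self, Finsupp.single_eq_same, smul_eq_mul, mul_one]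
    rw [Finset.sum_congr rfl fun i _ => hdiag i, Fintype.sum_sigma]
    simp only [Finset.sum_const, Finset.card_univ, Fintype.card_fin, nsmul_eq_mul, ← Finset.mul_sum]
    rw [Fin.sum_univ_eq_sum_range fun j => (j : k) * ((L : k) - (j : k))]
    have hfd : L * Module.finrank k S = Module.finrank k V := by
      rw [← e.finrank_eq, Module.finrank_pi_fintype, Finset.sum_const, Finset.card_univ,
        Fintype.card_fin, smul_eq_mul]
    have hs0 : (Module.finrank k S : k) ≠ 0 := by
      rw [ne_eq, CharP.cast_eq_zero_iff k p]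
      intro hd
      have hpos : 0 < Module.finrank k S := Nat.pos_of_ne_zero fun e0 =>
        hSne (Submodule.finrank_eq_zero.1 e0)
      have h1 := Nat.le_of_dvd hpos hd
      have h2 : Module.finrank k S ≤ Module.finrank k V := Submodule.finrank_le _
      have := h.small
      omega
    have hsum : ∀ M : ℕ, 6 * ∑ j ∈ range (M + 1), (j : k) * ((L : k) - (j : k)) =
        3 * (L : k) * M * (M + 1) - (M : k) * (M + 1) * (2 * M + 1) := by
      intro M
      induction M with
      | zero => simp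
      | succ M ih => rw [Finset.sum_range_succ, mul_add, ih]; push_cast; ring
    refine mul_ne_zero hs0 fun h0 => ?_
    obtain ⟨l, rfl⟩ : ∃ l, L = l + 1 := ⟨L - 1, by omega⟩
    have h6 := hsum l
    rw [h0, mul_zero] at h6
    have h7 : ((l * (l + 1) * (l + 2) : ℕ) : k) = 0 := by
      push_cast at h6 ⊢
      linear_combination -h6
    rw [CharP.cast_eq_zero_iff k p, hp.out.dvd_mul, hp.out.dvd_mul] at h7
    rcases h7 with (h7 | h7) | h7 <;> have := Nat.le_of_dvd (by omega) h7 <;> omega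
  · obtain ⟨a, ha0, ha⟩ := hsemi c hc
    have hcj : ∀ (j : ℕ) (s : S), ρ c ((D ^ j) (s : V)) =
        a ^ j • (D ^ j) ((⟨ρ c (s : V), hSK c hc _ s.2⟩ : S) : V) := fun j s => by
      rw [← Module.End.mul_apply, ha, LinearMap.smul_apply, Module.End.mul_apply]
    have hci : ∀ T T' : Module.End k V, ρ c * T = T' * ρ c → ρ c * T * ρ c⁻¹ = T' := by
      intro T T' hT
      rw [hT, mul_assoc, rho_mul_inv, mul_one]
    refine ⟨a, ha0, hci _ _ ?_, hci _ _ ?_, hci _ _ ?_⟩
    · have h1 := ha 1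
      rw [pow_one, pow_one] at h1
      rw [h1, smul_mul_assoc]
    · refine hext _ _ fun j s hj => ?_
      simp only [Module.End.mul_apply, hcj, hH', map_smul]
      rw [show ∀ (v : V) (hv : v ∈ S), H ((D ^ j) v) = (2 * (j : k) - L + 1) • (D ^ j) v from
        fun v hv => hH' j ⟨v, hv⟩]
      · module
      · exact hSK c hc _ s.2
    · refine hext _ _ fun j s hj => ?_
      simp only [Module.End.mul_apply, LinearMap.smul_apply, hcj, hF' j _ hj.le, map_smul]
      rw [show ∀ (v : V) (hv : v ∈ S), F ((D ^ j) v) =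
        ((j : k) * ((L : k) - j)) • (D ^ (j - 1)) v from fun v hv => hF' j ⟨v, hv⟩ hj.le]
      · rcases j with _ | j
        · simp
        · rw [Nat.add_sub_cancel]
          simp only [smul_smul]
          congr 1
          field_simp
          ring
      · exact hSK c hc _ s.2

end Small

end CfsgLib.SmallPRep
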